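import Mathlib.FieldTheory.Separable
import Mathlib.RingTheory.AdjoinRoot
import Mathlib.RingTheory.Localization.Integral
import Mathlib.FieldTheory.IntermediateField.Adjoin.Basic
import Mathlib.LinearAlgebra.Dimension.Localization

/-!
# Function fields of finite covers of the projective line: algebra

`injective_of_finite`: a finite map `k[X] → A`, `t` transcendental somewhere in `Frac A`, is injective.
`finrank_adjoin`: `[K : k(t)] = rank of A over k[t]`.  `finrank_eq`, `isSeparable`: comparison with a residue
field extension `F → L`.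
-/

set_option autoImplicit false
set_option linter.style.haveILetI false
set_option linter.unusedSectionVars false

open Polynomial IntermediateField

namespace K663.FFAlg

variable {k : Type*} [Field k]

theorem injective_of_finite {A K : Type*} [CommRing A] [IsDomain A] [Field K] [Algebra A K] [IsFractionRing A K]
    (φ : k →+* A) (t : A) (hfin : (eval₂RingHom φ t).Finite) (z : K)
    (hz : Function.Injective (eval₂RingHom ((algebraMap A K).comp φ) z)) :
    Function.Injective (eval₂RingHom φ t) := by
  by_contra hcon
  rw [injective_iff_map_eq_zero] at hcon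
  push Not at hcon
  obtain ⟨p, hp, hp0⟩ := hcon
  let _ : Algebra k A := φ.toAlgebra
  let _ : Algebra k K := ((algebraMap A K).comp φ).toAlgebra
  have : IsScalarTower k A K := .of_algebraMap_eq' rfl
  let l : AdjoinRoot p →+* A := AdjoinRoot.lift φ t hp
  have e : l.comp (AdjoinRoot.mk p) = eval₂RingHom φ t := by
    apply Polynomial.ringHom_ext
    · intro a; simp [l]
    · simp [l]
  have h1 : l.Finite := RingHom.Finite.of_comp_finite (f := AdjoinRoot.mk p) (by rw [e]; exact hfin)
  have h2 : (AdjoinRoot.of p).Finite := by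
    have h5 : Module.Finite k (AdjoinRoot p) := (AdjoinRoot.powerBasis hp0).finite
    have h6 : algebraMap k (AdjoinRoot p) = AdjoinRoot.of p := rfl
    rw [← h6]
    exact RingHom.finite_algebraMap.2 h5
  have h3 : φ = l.comp (AdjoinRoot.of p) := by
    ext a; simp [l]
  have h4 : φ.Finite := by rw [h3]; exact h1.comp h2
  have : Module.Finite k A := h4
  have : Algebra.IsAlgebraic k A := inferInstance
  have : Algebra.IsAlgebraic A K := IsLocalization.isAlgebraic K (nonZeroDivisors A)
  have : Algebra.IsAlgebraic k K := Algebra.IsAlgebraic.trans k A K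
  exact (transcendental_iff_injective.mpr hz) (Algebra.IsAlgebraic.isAlgebraic z)

section adj

variable {K : Type*} [Field K] [Algebra k K] (τ : K)

/-- `k[X] → k(τ)`. -/
noncomputable def toAdj : k[X] →+* k⟮τ⟯ := (aeval (AdjoinSimple.gen k τ)).toRingHom

theorem coe_toAdj (p : k[X]) : (toAdj τ p : K) = aeval τ p := by
  change ((aeval (AdjoinSimple.gen k τ) p : k⟮τ⟯) : K) = _
  rw [← IntermediateField.coe_val, ← Polynomial.aeval_algHom_apply]
  simp

theorem toAdj_injective (hτ : Function.Injective (aeval τ : k[X] →ₐ[k] K)) :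
    Function.Injective (toAdj (k := k) τ) := by
  intro p q h
  apply hτ
  rw [← coe_toAdj, ← coe_toAdj, h]

theorem exists_toAdj (z : k⟮τ⟯) : ∃ a b : k[X], z = toAdj τ a / toAdj τ b := by
  obtain ⟨r, s, h⟩ := (mem_adjoin_simple_iff k (z : K)).1 z.2
  refine ⟨r, s, ?_⟩
  apply Subtype.ext
  rw [h, ← coe_toAdj, ← coe_toAdj]
  rfl

end adj

theorem isFractionRing_of {R F : Type*} [CommRing R] [IsDomain R] [Field F] (ι : R →+* F) (hi : Function.Injective ι)
    (hs : ∀ z : F, ∃ a b, z = ι a / ι b) : letI := ι.toAlgebra
    IsFractionRing R F := by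
  letI := ι.toAlgebra
  have : FaithfulSMul R F := (faithfulSMul_iff_algebraMap_injective R F).2 hi
  exact IsFractionRing.of_field R F hs

section main

variable {K L F A : Type*} [Field K] [Field L] [Field F] [CommRing A] [IsDomain A] [Algebra k K]
  [Algebra A K] [IsFractionRing A K] (φ : k →+* A) (hφ : (algebraMap A K).comp φ = algebraMap k K) (t : A)

include hφ in
omit [IsDomain A] [IsFractionRing A K] in
theorem aeval_eq (p : k[X]) : aeval (algebraMap A K t) p = algebraMap A K (eval₂ φ t p) := by
  rw [hom_eval₂, hφ]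
  rfl

include hφ in
theorem finrank_adjoin (hinj : Function.Injective (eval₂RingHom φ t)) :
    Module.finrank k⟮algebraMap A K t⟯ K =
      letI := (eval₂RingHom φ t).toAlgebra
      Module.finrank k[X] A := by
  letI : Algebra k[X] A := (eval₂RingHom φ t).toAlgebra
  letI : Algebra k[X] k⟮algebraMap A K t⟯ := (toAdj (algebraMap A K t)).toAlgebra
  letI : Algebra k[X] K := ((algebraMap A K).comp (eval₂RingHom φ t)).toAlgebra
  have hτ : Function.Injective (aeval (algebraMap A K t) : k[X] →ₐ[k] K) := by
    intro p q h
    rw [aeval_eq φ hφ, aeval_eq φ hφ] at h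
    exact hinj (IsFractionRing.injective A K h)
  have : IsFractionRing k[X] k⟮algebraMap A K t⟯ := isFractionRing_of _ (toAdj_injective _ hτ) (exists_toAdj _)
  have : IsScalarTower k[X] k⟮algebraMap A K t⟯ K := .of_algebraMap_eq fun p => by
    change algebraMap A K (eval₂ φ t p) = (toAdj (algebraMap A K t) p : K)
    rw [coe_toAdj, aeval_eq φ hφ]
  have : IsScalarTower k[X] A K := .of_algebraMap_eq' rfl
  exact IsFractionRing.finrank_eq k[X] k⟮algebraMap A K t⟯ A K

variable (ι : k[X] →+* F) (hι : ∀ z : F, ∃ a b, z = ι a / ι b) (ψ : F →+* L) (ρ : K ≃+* L)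
  (hcomp : ∀ p, ψ (ι p) = ρ (algebraMap A K (eval₂ φ t p)))

include hι hcomp in
theorem finrank_eq (hinj : Function.Injective (eval₂RingHom φ t)) :
    (letI := ψ.toAlgebra; Module.finrank F L) =
      letI := (eval₂RingHom φ t).toAlgebra
      Module.finrank k[X] A := by
  letI : Algebra k[X] A := (eval₂RingHom φ t).toAlgebra
  letI : Algebra F L := ψ.toAlgebra
  letI : Algebra k[X] F := ι.toAlgebra
  letI : Algebra A L := (ρ.toRingHom.comp (algebraMap A K)).toAlgebra
  letI : Algebra k[X] L := ((algebraMap A L).comp (algebraMap k[X] A)).toAlgebra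
  have hA : ∀ p, algebraMap A L (eval₂ φ t p) = ψ (ι p) := fun p => (hcomp p).symm
  have hiL : Function.Injective (algebraMap A L) := ρ.injective.comp (IsFractionRing.injective A K)
  have hii : Function.Injective ι := by
    intro p q h
    apply hinj
    apply hiL
    change algebraMap A L (eval₂ φ t p) = algebraMap A L (eval₂ φ t q)
    rw [hA, hA, h]
  have : IsFractionRing k[X] F := isFractionRing_of _ hii hι
  have : IsFractionRing A L := by
    have : FaithfulSMul A L := (faithfulSMul_iff_algebraMap_injective A L).2 hiL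
    refine IsFractionRing.of_field A L fun z => ?_
    obtain ⟨a, b, hb, h⟩ := IsFractionRing.div_surjective (A := A) (ρ.symm z)
    refine ⟨a, b, ?_⟩
    have h2 := congrArg ρ h
    rw [ρ.apply_symm_apply, map_div₀] at h2
    exact h2.symm
  have : IsScalarTower k[X] F L := .of_algebraMap_eq fun p => hA p
  have : IsScalarTower k[X] A L := .of_algebraMap_eq' rfl
  exact IsFractionRing.finrank_eq k[X] F A L

include hφ hι hcomp in
theorem isSeparable (hinj : Function.Injective (eval₂RingHom φ t))
    (h : letI := ψ.toAlgebra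
      Algebra.IsSeparable F L) : Algebra.IsSeparable k⟮algebraMap A K t⟯ K := by
  letI : Algebra F L := ψ.toAlgebra
  letI : Algebra k[X] F := ι.toAlgebra
  letI : Algebra k[X] k⟮algebraMap A K t⟯ := (toAdj (algebraMap A K t)).toAlgebra
  have hτ : Function.Injective (aeval (algebraMap A K t) : k[X] →ₐ[k] K) := by
    intro p q h
    rw [aeval_eq φ hφ, aeval_eq φ hφ] at h
    exact hinj (IsFractionRing.injective A K h)
  have h1 : IsFractionRing k[X] k⟮algebraMap A K t⟯ := isFractionRing_of _ (toAdj_injective _ hτ) (exists_toAdj _)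
  have hii : Function.Injective ι := by
    intro p q h
    apply hinj
    apply IsFractionRing.injective A K
    apply ρ.injective
    change ρ (algebraMap A K (eval₂ φ t p)) = ρ (algebraMap A K (eval₂ φ t q))
    rw [← hcomp, ← hcomp, h]
  have h2 : IsFractionRing k[X] F := isFractionRing_of _ hii hι
  let e : F ≃ₐ[k[X]] k⟮algebraMap A K t⟯ := IsLocalization.algEquiv (nonZeroDivisors k[X]) F k⟮algebraMap A K t⟯
  have hc : (algebraMap k⟮algebraMap A K t⟯ K).comp e.toRingEquiv.toRingHom = ρ.symm.toRingHom.comp (algebraMap F L) := by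
    apply IsLocalization.ringHom_ext (nonZeroDivisors k[X])
    apply RingHom.ext
    intro p
    change ((e (algebraMap k[X] F p) : k⟮algebraMap A K t⟯) : K) = ρ.symm (ψ (ι p))
    rw [hcomp, ρ.symm_apply_apply, e.commutes, ← aeval_eq φ hφ, ← coe_toAdj]
    rfl
  exact Algebra.IsSeparable.of_equiv_equiv e.toRingEquiv ρ.symm hc

end main

end K663.FFAlg
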