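import Groth.Agent.Curves.K663.P1OfHom
import Groth.Agent.Curves.K663.FFAlg
import Groth.Agent.Picfga.CurvePts
import Groth.Agent.Picfga.ChiCech
import Groth.Prelude.Def_CurvBase

/-!
# Function fields of finite covers of the projective line

`X` an integral one-dimensional scheme over `k` with a finite morphism `f` to `P^1_k` over `k`: the charts are
nonempty, the coordinate `t` is transcendental, `[K(X) : k(t)]` is the residue degree of `f` at the generic point.
-/

set_option autoImplicit false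
set_option backward.isDefEq.respectTransparency false
set_option linter.style.haveILetI false
universe u

open CategoryTheory CategoryTheory.Limits AlgebraicGeometry Opposite TopologicalSpace Polynomial
open Groth.Agent.Fdesc.LocGen Groth.Agent Groth.Agent.Picfga Groth.Agent.Picfga.P1Def
open Groth.Agent.Lefpen.H705.HypIdeal Groth.Agent.Lefpen.H705.ChartPoly Groth.Agent.Lefpen.H705.PointCoord
open Groth.Agent.Lefpen.H716.CIGeom K663.P1OfHom

attribute [local instance] Curv2.stalkAlgebra

namespace K663.FFCover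

variable {k : Type u} [Field k] {X : Scheme.{u}} [X.Over (Spec (CommRingCat.of k))] [IsIntegral X]

/-- The structure map of `X`. -/
noncomputable abbrev str (k : Type u) [Field k] (X : Scheme.{u}) [X.Over (Spec (CommRingCat.of k))] : X ⟶ Spec (CommRingCat.of k) :=
  X ↘ (Spec (CommRingCat.of k))

theorem germ_strMap (U : X.Opens) [Nonempty U] (a : k) :
    (X.germToFunctionField U).hom (strMap (str k X) U a) = algebraMap k X.functionField a := by
  change (X.germToFunctionField U).hom (ores (le_top : U ≤ ⊤) (Coh.toGlobal (str k X) a)) = _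
  exact X.presheaf.germ_res_apply (homOfLE (le_top : U ≤ ⊤)) _ _ _

variable (f : X ⟶ CohB1.ProjSpace 1 k) (hf : f ≫ CohB1.ProjSpace.toSpec 1 k = str k X)

include hf in
theorem injective_eval [IsFinite f] (hdim : topologicalKrullDim X = 1) (j : Fin (1 + 1))
    [Nonempty (f ⁻¹ᵁ (LefPen.chart 1 k j))] :
    Function.Injective (eval₂RingHom (strMap (str k X) (f ⁻¹ᵁ (LefPen.chart 1 k j))) (tt f j)) := by
  obtain ⟨z, hz⟩ := CurvePts.exists_transcendental (str k X) hdim
  have hU : IsAffineOpen (f ⁻¹ᵁ (LefPen.chart 1 k j)) := (isAffineOpen_chart j).preimage f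
  have : IsFractionRing Γ(X, f ⁻¹ᵁ (LefPen.chart 1 k j)) X.functionField :=
    functionField_isFractionRing_of_isAffineOpen X _ hU
  refine FFAlg.injective_of_finite (K := X.functionField) _ _ (finite_eval f hf j) z ?_
  have e : (algebraMap Γ(X, f ⁻¹ᵁ (LefPen.chart 1 k j)) X.functionField).comp
      (strMap (str k X) (f ⁻¹ᵁ (LefPen.chart 1 k j))) = CurvePts.kToK (str k X) :=
    CurvePts.germToFunctionField_coeffHom (str k X) _
  rw [e]
  exact hz

include hf in
theorem tt_ne_zero [IsFinite f] (hdim : topologicalKrullDim X = 1) (j : Fin (1 + 1))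
    [Nonempty (f ⁻¹ᵁ (LefPen.chart 1 k j))] : tt f j ≠ 0 := by
  intro h
  have h1 := injective_eval f hf hdim j
  have h2 : eval₂RingHom (strMap (str k X) (f ⁻¹ᵁ (LefPen.chart 1 k j))) (tt f j) Polynomial.X = 0 := by
    rw [coe_eval₂RingHom, eval₂_X, h]
  exact X_ne_zero (h1 (h2.trans (map_zero _).symm))

include hf in
theorem generic_mem [IsFinite f] (hdim : topologicalKrullDim X = 1) (j : Fin (1 + 1)) :
    genericPoint X ∈ f ⁻¹ᵁ (LefPen.chart 1 k j) := by
  have hgen : ∀ U : X.Opens, Nonempty U → genericPoint X ∈ U := fun U h =>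
    ((genericPoint_spec X).mem_open_set_iff U.isOpen).2 (by
      obtain ⟨x⟩ := h
      exact ⟨x.1, trivial, x.2⟩)
  have key : ∀ i l : Fin (1 + 1), l = i.succAbove 0 → genericPoint X ∈ f ⁻¹ᵁ (LefPen.chart 1 k i) →
      genericPoint X ∈ f ⁻¹ᵁ (LefPen.chart 1 k l) := by
    intro i l hl hi
    have : Nonempty (f ⁻¹ᵁ (LefPen.chart 1 k i)) := ⟨⟨_, hi⟩⟩
    have h1 := tt_ne_zero f hf hdim i
    have h2 : X.basicOpen (tt f i) ≠ ⊥ := by
      rw [Ne, basicOpen_eq_bot_iff]
      exact h1
    have h3 : Nonempty (X.basicOpen (tt f i)) := by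
      by_contra hne
      apply h2
      ext x
      simp only [SetLike.mem_coe, Opens.coe_bot, Set.mem_empty_iff_false, iff_false]
      intro hx
      exact hne ⟨⟨x, hx⟩⟩
    have h4 := hgen _ h3
    rw [← inf_eq f i l hl] at h4
    exact h4.2
  have htop : genericPoint X ∈ f ⁻¹ᵁ (LefPen.chart 1 k 0) ⊔ f ⁻¹ᵁ (LefPen.chart 1 k 1) := by
    have : f ⁻¹ᵁ (LefPen.chart 1 k 0) ⊔ f ⁻¹ᵁ (LefPen.chart 1 k 1) = ⊤ :=
      congrArg (fun V => f ⁻¹ᵁ V) (sup_chart (k := k))
    rw [this]; trivial
  have h01 : genericPoint X ∈ f ⁻¹ᵁ (LefPen.chart 1 k 0) ∧ genericPoint X ∈ f ⁻¹ᵁ (LefPen.chart 1 k 1) := by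
    rcases htop with h | h
    · exact ⟨h, key 0 1 rfl h⟩
    · exact ⟨key 1 0 rfl h, h⟩
  fin_cases j
  · exact h01.1
  · exact h01.2

include hf in
theorem flat_eval' [IsFinite f] (hdim : topologicalKrullDim X = 1) (j : Fin (1 + 1)) :
    (eval₂RingHom (strMap (str k X) (f ⁻¹ᵁ (LefPen.chart 1 k j))) (tt f j)).Flat := by
  have hne : Nonempty (f ⁻¹ᵁ (LefPen.chart 1 k j)) := ⟨⟨_, generic_mem f hf hdim j⟩⟩
  have h1 := injective_eval f hf hdim j
  let _ : Algebra k[X] Γ(X, f ⁻¹ᵁ (LefPen.chart 1 k j)) :=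
    (eval₂RingHom (strMap (str k X) (f ⁻¹ᵁ (LefPen.chart 1 k j))) (tt f j)).toAlgebra
  have h2 : Module.IsTorsionFree k[X] Γ(X, f ⁻¹ᵁ (LefPen.chart 1 k j)) := by
    have : FaithfulSMul k[X] Γ(X, f ⁻¹ᵁ (LefPen.chart 1 k j)) :=
      (faithfulSMul_iff_algebraMap_injective _ _).mpr h1
    infer_instance
  have h3 : Module.Flat k[X] Γ(X, f ⁻¹ᵁ (LefPen.chart 1 k j)) := inferInstance
  exact h3

/-- The two charts. -/
noncomputable def p1Data [IsFinite f] (hdim : topologicalKrullDim X = 1) : P1Data (str k X) where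
  U₀ := f ⁻¹ᵁ (LefPen.chart 1 k 0)
  U₁ := f ⁻¹ᵁ (LefPen.chart 1 k 1)
  affine₀ := (isAffineOpen_chart 0).preimage f
  affine₁ := (isAffineOpen_chart 1).preimage f
  sup := by
    have := congrArg (fun V => f ⁻¹ᵁ V) (sup_chart (k := k))
    exact this
  t₀ := tt f 0
  t₁ := tt f 1
  inf₀ := inf_eq f 0 1 rfl
  inf₁ := by
    rw [inf_comm]
    exact inf_eq f 1 0 rfl
  mul := by
    have h := ores_ratio_mul (k := k) (0 : Fin (1 + 1)) 1 (LefPen.chart 1 k 0 ⊓ LefPen.chart 1 k 1) inf_le_left inf_le_right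
    have h2 := congrArg (f.app (LefPen.chart 1 k 0 ⊓ LefPen.chart 1 k 1)).hom h
    rw [map_mul, map_one] at h2
    refine Eq.trans ?_ h2
    congr 1
    · unfold ores
      rw [← CommRingCat.comp_apply, ← CommRingCat.comp_apply]
      exact congrArg (fun φ => φ.hom (cc 0)) (f.naturality (homOfLE (inf_le_left : LefPen.chart 1 k 0 ⊓ LefPen.chart 1 k 1 ≤ _)).op).symm
    · unfold ores
      rw [← CommRingCat.comp_apply, ← CommRingCat.comp_apply]
      exact congrArg (fun φ => φ.hom (cc 1)) (f.naturality (homOfLE (inf_le_right : LefPen.chart 1 k 0 ⊓ LefPen.chart 1 k 1 ≤ _)).op).symm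
  finite₀ := finite_eval f hf 0
  finite₁ := finite_eval f hf 1
  flat₀ := flat_eval' f hf hdim 0
  flat₁ := flat_eval' f hf hdim 1

/-- Polynomials as elements of a residue field of `P^1`. -/
noncomputable def evRes (j : Fin (1 + 1)) (y : CohB1.ProjSpace 1 k) (hy : y ∈ LefPen.chart 1 k j) :
    k[X] →+* (CohB1.ProjSpace 1 k).residueField y :=
  ((CohB1.ProjSpace 1 k).evaluation (LefPen.chart 1 k j) y hy).hom.comp (ev j)

theorem exists_evRes (j : Fin (1 + 1)) (y : CohB1.ProjSpace 1 k) (hy : y ∈ LefPen.chart 1 k j)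
    (z : (CohB1.ProjSpace 1 k).residueField y) : ∃ a b : k[X], z = evRes j y hy a / evRes j y hy b := by
  obtain ⟨w, rfl⟩ := (CohB1.ProjSpace 1 k).residue_surjective y z
  letI : Algebra Γ(CohB1.ProjSpace 1 k, LefPen.chart 1 k j) ((CohB1.ProjSpace 1 k).presheaf.stalk y) :=
    TopCat.Presheaf.algebra_section_stalk (CohB1.ProjSpace 1 k).presheaf (U := LefPen.chart 1 k j) ⟨y, hy⟩
  have := (isAffineOpen_chart (k := k) j).isLocalization_stalk ⟨y, hy⟩
  obtain ⟨⟨a, s⟩, h⟩ := IsLocalization.surj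
    ((isAffineOpen_chart (k := k) j).primeIdealOf ⟨y, hy⟩).asIdeal.primeCompl w
  obtain ⟨a', ha'⟩ := (ev_bijective (k := k) j).2 a
  obtain ⟨s', hs'⟩ := (ev_bijective (k := k) j).2 s.1
  refine ⟨a', s', ?_⟩
  have hu := IsLocalization.map_units ((CohB1.ProjSpace 1 k).presheaf.stalk y) s
  have h2 := congrArg ((CohB1.ProjSpace 1 k).residue y).hom h
  rw [map_mul] at h2
  have e : ∀ c : k[X], evRes j y hy c = ((CohB1.ProjSpace 1 k).residue y).hom
      (algebraMap Γ(CohB1.ProjSpace 1 k, LefPen.chart 1 k j) ((CohB1.ProjSpace 1 k).presheaf.stalk y) (ev j c)) :=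
    fun c => rfl
  rw [e, e, ha', hs', eq_div_iff ((hu.map ((CohB1.ProjSpace 1 k).residue y).hom).ne_zero)]
  exact h2

/-- The function field and the residue field at the generic point. -/
noncomputable def rho (X : Scheme.{u}) [IsIntegral X] : X.functionField ≃+* X.residueField (genericPoint X) :=
  RingEquiv.ofBijective (X.residue (genericPoint X)).hom
    ⟨(X.residue (genericPoint X)).hom.injective, X.residue_surjective _⟩

include hf in
theorem comp_eq (j : Fin (1 + 1)) (hη : f (genericPoint X) ∈ LefPen.chart 1 k j)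
    [Nonempty (f ⁻¹ᵁ (LefPen.chart 1 k j))] (p : k[X]) :
    (f.residueFieldMap (genericPoint X)).hom (evRes j (f (genericPoint X)) hη p) =
      rho X ((X.germToFunctionField (f ⁻¹ᵁ (LefPen.chart 1 k j))).hom
        (eval₂ (strMap (str k X) (f ⁻¹ᵁ (LefPen.chart 1 k j))) (tt f j) p)) := by
  have h1 := congrArg (fun φ => φ p) (eval_eq f hf j)
  change _ = (f.app (LefPen.chart 1 k j)).hom (ev j p) at h1
  have h2 : eval₂ (strMap (str k X) (f ⁻¹ᵁ (LefPen.chart 1 k j))) (tt f j) p = (f.app (LefPen.chart 1 k j)).hom (ev j p) := h1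
  rw [h2]
  have h3 := Scheme.evaluation_naturality f (V := LefPen.chart 1 k j) (genericPoint X) hη
  have h4 := congrArg (fun φ => φ.hom (ev j p)) h3
  exact h4

theorem algebraMap_comp (U : X.Opens) [Nonempty U] :
    (algebraMap Γ(X, U) X.functionField).comp (strMap (str k X) U) = algebraMap k X.functionField :=
  RingHom.ext fun a => germ_strMap U a

include hf in
/-- The rank of the coordinate ring of a chart is the residue degree at the generic point. -/
theorem finrank_chart [IsFinite f] (hdim : topologicalKrullDim X = 1) (j : Fin (1 + 1)) :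
    (letI := (eval₂RingHom (strMap (str k X) (f ⁻¹ᵁ (LefPen.chart 1 k j))) (tt f j)).toAlgebra
    Module.finrank k[X] Γ(X, f ⁻¹ᵁ (LefPen.chart 1 k j))) = f.residueDegree (genericPoint X) := by
  have hη := generic_mem f hf hdim j
  have hne : Nonempty (f ⁻¹ᵁ (LefPen.chart 1 k j)) := ⟨⟨_, hη⟩⟩
  have hU : IsAffineOpen (f ⁻¹ᵁ (LefPen.chart 1 k j)) := (isAffineOpen_chart j).preimage f
  have : IsFractionRing Γ(X, f ⁻¹ᵁ (LefPen.chart 1 k j)) X.functionField :=
    functionField_isFractionRing_of_isAffineOpen X _ hU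
  exact (FFAlg.finrank_eq (strMap (str k X) (f ⁻¹ᵁ (LefPen.chart 1 k j))) (tt f j)
    (evRes j (f (genericPoint X)) hη) (exists_evRes j _ hη) (f.residueFieldMap (genericPoint X)).hom (rho X)
    (comp_eq f hf j hη) (injective_eval f hf hdim j)).symm

include hf in
/-- The degree of the function field over `k(t)`. -/
theorem finrank_functionField [IsFinite f] (hdim : topologicalKrullDim X = 1) (j : Fin (1 + 1))
    [Nonempty (f ⁻¹ᵁ (LefPen.chart 1 k j))] :
    Module.finrank (IntermediateField.adjoin k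
      {algebraMap Γ(X, f ⁻¹ᵁ (LefPen.chart 1 k j)) X.functionField (tt f j)}) X.functionField =
      f.residueDegree (genericPoint X) := by
  have hU : IsAffineOpen (f ⁻¹ᵁ (LefPen.chart 1 k j)) := (isAffineOpen_chart j).preimage f
  have : IsFractionRing Γ(X, f ⁻¹ᵁ (LefPen.chart 1 k j)) X.functionField :=
    functionField_isFractionRing_of_isAffineOpen X _ hU
  rw [← finrank_chart f hf hdim j]
  exact FFAlg.finrank_adjoin (strMap (str k X) (f ⁻¹ᵁ (LefPen.chart 1 k j))) (algebraMap_comp _) (tt f j)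
    (injective_eval f hf hdim j)

include hf in
theorem isSeparable_functionField [IsFinite f] (hdim : topologicalKrullDim X = 1) (j : Fin (1 + 1))
    [Nonempty (f ⁻¹ᵁ (LefPen.chart 1 k j))]
    (hsep : letI := (f.residueFieldMap (genericPoint X)).hom.toAlgebra
        Algebra.IsSeparable ((CohB1.ProjSpace 1 k).residueField (f (genericPoint X)))
          (X.residueField (genericPoint X))) :
    Algebra.IsSeparable (IntermediateField.adjoin k
      {algebraMap Γ(X, f ⁻¹ᵁ (LefPen.chart 1 k j)) X.functionField (tt f j)}) X.functionField := by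
  have hη := generic_mem f hf hdim j
  have hU : IsAffineOpen (f ⁻¹ᵁ (LefPen.chart 1 k j)) := (isAffineOpen_chart j).preimage f
  have : IsFractionRing Γ(X, f ⁻¹ᵁ (LefPen.chart 1 k j)) X.functionField :=
    functionField_isFractionRing_of_isAffineOpen X _ hU
  exact FFAlg.isSeparable (strMap (str k X) (f ⁻¹ᵁ (LefPen.chart 1 k j))) (algebraMap_comp _) (tt f j)
    (evRes j (f (genericPoint X)) hη) (exists_evRes j _ hη) (f.residueFieldMap (genericPoint X)).hom (rho X)
    (comp_eq f hf j hη) (injective_eval f hf hdim j) hsep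

end K663.FFCover
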