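import Mathlib.FieldTheory.Galois.Basic
import Mathlib.FieldTheory.Separable

/-!
# Quadratic extensions in characteristic different from two
-/

set_option autoImplicit false

namespace K663.QuadSep

open Polynomial

/-- A quadratic extension of fields of characteristic different from two is separable. -/
theorem isSeparable {K L : Type*} [Field K] [Field L] [Algebra K L] (h2 : (2 : K) ≠ 0)
    (h : Module.finrank K L = 2) : Algebra.IsSeparable K L := by
  have : FiniteDimensional K L := Module.finite_of_finrank_eq_succ h
  refine ⟨fun a => ?_⟩
  have ha : IsIntegral K a := IsIntegral.of_finite K a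
  have hdvd : (minpoly K a).natDegree ∣ 2 := h ▸ minpoly.degree_dvd ha
  have hmonic := minpoly.monic ha
  rw [IsSeparable, Polynomial.separable_iff_derivative_ne_zero (minpoly.irreducible ha)]
  intro h0
  have h1 : (minpoly K a).natDegree = 1 ∨ (minpoly K a).natDegree = 2 := (Nat.dvd_prime Nat.prime_two).1 hdvd
  have h3 : (derivative (minpoly K a)).coeff ((minpoly K a).natDegree - 1) = ((minpoly K a).natDegree : K) := by
    rw [coeff_derivative]
    have h4 : (minpoly K a).natDegree - 1 + 1 = (minpoly K a).natDegree := by omega
    rw [h4, hmonic.coeff_natDegree, one_mul]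
    exact_mod_cast congrArg (Nat.cast (R := K)) h4
  rw [h0, coeff_zero] at h3
  rcases h1 with e | e
  · rw [e] at h3
    simp at h3
  · rw [e] at h3
    exact h2 (by exact_mod_cast h3.symm)

/-- A nontrivial automorphism of a separable quadratic extension. -/
theorem exists_algEquiv {K L : Type*} [Field K] [Field L] [Algebra K L] [Algebra.IsSeparable K L]
    (h : Module.finrank K L = 2) : ∃ τ : L ≃ₐ[K] L, τ ≠ AlgEquiv.refl := by
  have : FiniteDimensional K L := Module.finite_of_finrank_eq_succ h
  have hq : Algebra.IsQuadraticExtension K L := { finrank_eq_two' := h }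
  have hg : IsGalois K L := inferInstance
  have hc : Nat.card (L ≃ₐ[K] L) = 2 := (IsGalois.card_aut_eq_finrank K L).trans h
  by_contra hcon
  push Not at hcon
  have : Subsingleton (L ≃ₐ[K] L) := ⟨fun a b => (hcon a).trans (hcon b).symm⟩
  have h3 : Nat.card (L ≃ₐ[K] L) ≤ 1 := Finite.card_le_one_iff_subsingleton.2 this
  omega

end K663.QuadSep
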