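import Groth.Agent.Curves.K663.RamSum
import Groth.Agent.Curves.K663.QuadSep
import Groth.Agent.Curves.K423.FF
import Groth.Agent.ZCorr.K952.Pts
import Groth.Agent.JacVar.K533.CurveBasic
import Groth.Agent.Sga4B.SmoothNormal

/-!
# Fixed points of the involution of a double cover

`card_fixed`: for a finite flat morphism `f : C ⟶ Y` of degree two of smooth proper curves over an algebraically
closed field of characteristic not two whose fibres are the sets `{x, σ x}`, the number of closed points fixed by
`σ` is `4 χ(O_Y) - 2 χ(O_C)`.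
-/

set_option autoImplicit false
universe u

open CategoryTheory CategoryTheory.Limits AlgebraicGeometry TopologicalSpace Opposite

namespace K663.InvolCount

open Groth.Agent Groth.Agent.Divis.NormSheaf K321.HurwLoc

open Classical in
theorem ram_two {X Y : Scheme.{u}} (f : X ⟶ Y) [IsIntegral X] [IsIntegral Y] [Surjective f] [IsFinite f]
    [IsLocallyNoetherian Y] (h2 : letI := alg f; Module.finrank Y.functionField X.functionField = 2)
    (x x' : X) (hx' : f x' = f x) (hfib : ∀ z : X, f z = f x → z = x ∨ z = x')
    (hres : ∀ z : X, f z = f x → f.residueDegree z = 1)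
    (hR : IsDiscreteValuationRing (Y.presheaf.stalk (f x)))
    (hS : ∀ z : X, f z = f x → IsDiscreteValuationRing (X.presheaf.stalk z)) :
    ram f x = if x' = x then 2 else 1 := by
  classical
  have h3 := RamSum.sum_ram f (f x) hR hS
  rw [h2] at h3
  have h4 : ∑ᶠ z : {z : X // f z = f x}, (f.residueDegree z.1 : ℤ) * (ram f z.1 : ℤ) =
      ∑ᶠ z : {z : X // f z = f x}, (ram f z.1 : ℤ) :=
    finsum_congr fun z => by rw [hres z.1 z.2, Nat.cast_one, one_mul]
  rw [h4] at h3
  split_ifs with h
  · subst h
    have hsub : Subsingleton {z : X // f z = f x'} := ⟨fun a b => Subtype.ext (by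
      rcases hfib a.1 a.2 with e | e <;> rcases hfib b.1 b.2 with e' | e' <;> rw [e, e'])⟩
    have h5 : ∑ᶠ z : {z : X // f z = f x'}, (ram f z.1 : ℤ) = ram f x' := by
      have : Unique {z : X // f z = f x'} := ⟨⟨⟨x', rfl⟩⟩, fun a => Subsingleton.elim _ _⟩
      rw [finsum_unique]
      have := Subsingleton.elim (default : {z : X // f z = f x'}) ⟨x', rfl⟩
      rw [this]
    rw [h5] at h3
    exact_mod_cast h3
  · have h5 : ∑ᶠ z : {z : X // f z = f x}, (ram f z.1 : ℤ) = ram f x + ram f x' := by
      have h6 : (({⟨x, rfl⟩, ⟨x', hx'⟩} : Finset {z : X // f z = f x}) : Set {z : X // f z = f x}) = Set.univ := by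
        ext z
        simp only [Finset.coe_insert, Finset.coe_singleton, Set.mem_insert_iff, Set.mem_singleton_iff, Set.mem_univ,
          iff_true]
        rcases hfib z.1 z.2 with e | e
        · left
          exact Subtype.ext e
        · right
          exact Subtype.ext e
      rw [finsum_eq_sum_of_support_subset (s := {⟨x, rfl⟩, ⟨x', hx'⟩}) _ (by rw [h6]; exact Set.subset_univ _),
        Finset.sum_pair]
      intro e
      exact h (congrArg Subtype.val e).symm
    rw [h5] at h3
    have h7 := K321.HurwBase.ram_pos f x (hS x rfl) hR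
    have h8 := K321.HurwBase.ram_pos f x' (hS x' hx') (hx'.symm ▸ hR)
    have h9 : ram f x + ram f x' = 2 := by exact_mod_cast h3
    omega

attribute [local instance] Curv2.resAlgebra

/-- **The number of fixed points of the involution of a double cover.** -/
theorem card_fixed (k : Type u) [Field k] [IsAlgClosed k] (hk : (2 : k) ≠ 0)
    (X Y : Scheme.{u}) [X.Over (Spec (CommRingCat.of k))] [Y.Over (Spec (CommRingCat.of k))]
    [IsProper (X ↘ (Spec (CommRingCat.of k)))] [IsProper (Y ↘ (Spec (CommRingCat.of k)))]
    [IsIntegral X] [IsIntegral Y] (hdX : topologicalKrullDim X = 1) (hdY : topologicalKrullDim Y = 1)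
    (hnX : Pi1.IsNormalScheme X) (hnY : Pi1.IsNormalScheme Y)
    (f : X ⟶ Y) [IsFinite f] [Flat f] (hf : f ≫ (Y ↘ (Spec (CommRingCat.of k))) = X ↘ (Spec (CommRingCat.of k)))
    (hr : ∀ y : Y, f.finrank y = 2) (σ : X → X)
    (hfib : ∀ x x' : X, f x' = f x ↔ x' = x ∨ x' = σ x) :
    (Nat.card {x : X // IsClosed ({x} : Set X) ∧ σ x = x} : ℤ) =
      4 * Curv2.euler k Y (Coh.structureModule Y) - 2 * Curv2.euler k X (Coh.structureModule X) := by
  classical
  have hLNY : IsLocallyNoetherian Y := LocallyOfFiniteType.isLocallyNoetherian (Y ↘ Spec (CommRingCat.of k))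
  have hLNX : IsLocallyNoetherian X := LocallyOfFiniteType.isLocallyNoetherian (X ↘ Spec (CommRingCat.of k))
  have hgen : f (genericPoint X) = genericPoint Y := K423.FF.map_genericPoint_of_flat f
  have hsurj : Surjective f := K321.HurwBase.surjective_of_finite f hgen
  have hdeg : letI := alg f; Module.finrank Y.functionField X.functionField = 2 := by
    have := K423.FF.finrank_eq f hgen (genericPoint Y)
    rw [hr] at this
    exact this.symm
  have hk' : ∀ {L : Type u} [Field L] (φ : k →+* L), (2 : L) ≠ 0 := by
    intro L _ φ h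
    apply hk
    apply φ.injective
    rw [map_ofNat, h, map_zero]
  have hφ : ∀ y : Y, ∃ φ : k →+* Y.residueField y, True := fun y => ⟨Curv2.resMap k Y y, trivial⟩
  have hsep : letI := alg f; Algebra.IsSeparable Y.functionField X.functionField := by
    let := alg f
    refine QuadSep.isSeparable ?_ hdeg
    intro h
    have h3 : (2 : Y.residueField (genericPoint Y)) = 0 := by
      have := congrArg (Y.residue (genericPoint Y)).hom h
      rwa [map_ofNat, map_zero] at this
    obtain ⟨φ, -⟩ := hφ (genericPoint Y)
    exact hk' φ h3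
  obtain ⟨hX1, hX2, -⟩ := K321.LatSum.points k X hdX
  obtain ⟨hY1, hY2, -⟩ := K321.LatSum.points k Y hdY
  have hcl := K321.Hurw.isClosed_iff k f hdX hdY
  have hres : ∀ x : X, IsClosed ({x} : Set X) → f.residueDegree x = 1 := by
    intro x hx
    have : LocallyOfFiniteType (Y ↘ (Spec (CommRingCat.of k))) := inferInstance
    exact K952.Pts.residueDegree_map_eq_one f (Y ↘ (Spec (CommRingCat.of k))) x hx
  have hne1 : ∀ x, IsClosed ({x} : Set X) → x ≠ genericPoint X := by
    rintro x hx rfl
    exact hX2 hx
  have hne2 : ∀ y, IsClosed ({y} : Set Y) → y ≠ genericPoint Y := by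
    rintro x hx rfl
    exact hY2 hx
  have hram : ∀ x, IsClosed ({x} : Set X) → ram f x = if σ x = x then 2 else 1 := by
    intro x hx
    have hfx : IsClosed ({f x} : Set Y) := (hcl x).1 hx
    have hz : ∀ z : X, f z = f x → IsClosed ({z} : Set X) := fun z hz => (hcl z).2 (hz ▸ hfx)
    refine ram_two f hdeg x (σ x) ((hfib x (σ x)).2 (Or.inr rfl)) (fun z hz => (hfib x z).1 hz)
      (fun z h => hres z (hz z h))
      (K321.NormPid.isDiscreteValuationRing hnY hdY.le (hne2 _ hfx))
      (fun z h => K321.NormPid.isDiscreteValuationRing hnX hdX.le (hne1 _ (hz z h)))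
  have htame : ∀ x : X, IsClosed ({x} : Set X) → Tame f x := by
    intro x hx
    refine ⟨?_, ?_⟩
    · let := (f.residueFieldMap x).hom.toAlgebra
      have h1 : Module.finrank (Y.residueField (f x)) (X.residueField x) = 1 := hres x hx
      have h3 : Function.Surjective (algebraMap (Y.residueField (f x)) (X.residueField x)) := by
        have := Subalgebra.bot_eq_top_of_finrank_eq_one h1
        intro a
        have ha : a ∈ (⊥ : Subalgebra (Y.residueField (f x)) (X.residueField x)) := this ▸ Algebra.mem_top
        exact Algebra.mem_bot.1 ha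
      exact ⟨fun a => by
        obtain ⟨b, rfl⟩ := h3 a
        exact isSeparable_algebraMap b⟩
    · rw [hram x hx]
      obtain ⟨φ, -⟩ := hφ (f x)
      split_ifs
      · exact_mod_cast hk' φ
      · simp
  obtain ⟨-, h⟩ := K321.HurwMain.main k X Y hdX hdY hnX hnY f hf hsep
  have h := h.2 htame
  have hfr : ∀ x : X, IsClosed ({x} : Set X) → Module.finrank k (X.residueField x) = 1 := by
    intro x hx
    rw [K321.HurwBase.finrank_residueField]
    exact K952.Pts.residueDegree_eq_one (X ↘ (Spec (CommRingCat.of k))) x hx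
  have hL : ∑ᶠ x : X, (if IsClosed ({x} : Set X) then
        (((ram f x - 1 : ℕ) : ℤ) * (Module.finrank k (X.residueField x) : ℤ)) else 0) =
      ∑ᶠ x ∈ {x : X | IsClosed ({x} : Set X) ∧ σ x = x}, (1 : ℤ) := by
    refine finsum_congr fun x => ?_
    by_cases hx : IsClosed ({x} : Set X)
    · rw [if_pos hx, hfr x hx, hram x hx]
      by_cases hs : σ x = x
      · rw [if_pos hs, finsum_eq_if, if_pos ⟨hx, hs⟩]
        norm_num
      · rw [if_neg hs, finsum_eq_if, if_neg fun h => hs h.2]
        norm_num
    · rw [if_neg hx, finsum_eq_if, if_neg fun h => hx h.1]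
  have hR : ∑ᶠ x ∈ {x : X | IsClosed ({x} : Set X) ∧ σ x = x}, (1 : ℤ) =
      (Nat.card {x : X // IsClosed ({x} : Set X) ∧ σ x = x} : ℤ) := by
    by_cases hfin : {x : X | IsClosed ({x} : Set X) ∧ σ x = x}.Finite
    · rw [finsum_mem_eq_finite_toFinset_sum _ hfin, Finset.sum_const, nsmul_eq_mul, mul_one]
      rw [← Set.ncard_eq_toFinset_card _ hfin]
      rfl
    · have h1 : Nat.card {x : X // IsClosed ({x} : Set X) ∧ σ x = x} = 0 := by
        have : Infinite {x : X // IsClosed ({x} : Set X) ∧ σ x = x} := Set.infinite_coe_iff.2 hfin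
        exact Nat.card_eq_zero_of_infinite
      rw [h1, Nat.cast_zero]
      refine finsum_mem_eq_zero_of_infinite fun hf => hfin ?_
      convert hf using 1
      ext x
      simp
  rw [← hR, ← hL, h, hdeg]
  push_cast
  ring

end K663.InvolCount
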