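import Groth.Agent.Curves.K663.InvolQuot
import Groth.Agent.Curves.K663.InvolCount
import Groth.Agent.Curves.K322.CurveIso
import Groth.Agent.Curves.K314.P1Recog
import Groth.Agent.Curves.K321.RankTwo
import Groth.Agent.Curves.K317.SmoothCurve
import Groth.Agent.Variety.K425.GenEtale
import Groth.Agent.S16754
import Groth.Agent.S17377
import Groth.Agent.S14473
import Groth.Agent.S0023
import Groth.Agent.ZCorr.K952.P1Core
import Groth.Agent.VarietyA.CurveFin
import Groth.Agent.CurvesB.CurveRR
import Groth.Agent.Ega3B.ProjProper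
import Groth.Agent.Cohder.RelPC

/-!
# Double covers of the projective line and involutions with `2g + 2` fixed points
-/

set_option autoImplicit false
universe u

open CategoryTheory CategoryTheory.Limits AlgebraicGeometry TopologicalSpace Opposite

namespace K663.InvolMain

open Groth.Agent K321.HurwLoc

variable (k : Type u) [Field k]

theorem isNoetherian_of_proper {X : Scheme.{u}} (p : X ⟶ Spec (CommRingCat.of k)) [IsProper p] : IsNoetherian X := by
  have : IsLocallyNoetherian X := LocallyOfFiniteType.isLocallyNoetherian p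
  have : CompactSpace X := QuasiCompact.compactSpace_of_compactSpace p
  exact {}

/-- `χ(O) = 1 - g`. -/
theorem euler_structure [IsAlgClosed k] (X : Scheme.{u}) [X.Over (Spec (CommRingCat.of k))]
    [IsIntegral X] [IsProper (X ↘ Spec (CommRingCat.of k))] (hd : topologicalKrullDim X ≤ 1) :
    Curv2.euler k X (Coh.structureModule X) = 1 - (Curv2.genus k X : ℤ) := by
  have := isNoetherian_of_proper k (X ↘ Spec (CommRingCat.of k))
  rw [Groth.Agent.CurvesB.CurveRR.euler_eq k X hd, Groth.Agent.VarietyA.CurveFin.finrank_h0_structure k X]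
  rfl

theorem genus_P1 [(CohB1.ProjSpace 1 k).Over (Spec (CommRingCat.of k))] :
    Curv2.genus k (CohB1.ProjSpace 1 k) = 0 := by
  have : Subsingleton (Coh.HH (CohB1.ProjSpace 1 k) (Coh.structureModule (CohB1.ProjSpace 1 k)) 1) :=
    Groth.Agent.S0023.result 1 k 1 Nat.one_pos
  exact Module.finrank_zero_of_subsingleton

/-- A connected proper scheme, integral over an algebraically closed field, is geometrically connected. -/
theorem geometricallyConnected [IsAlgClosed k] {X : Scheme.{u}} (p : X ⟶ Spec (CommRingCat.of k)) [IsProper p]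
    [IsIntegral X] : GeometricallyConnected p := by
  let : X.Over (Spec (CommRingCat.of k)) := ⟨p⟩
  have : IsProper (X ↘ Spec (CommRingCat.of k)) := inferInstanceAs (IsProper p)
  exact Groth.Agent.S16754.geomConn_of_h0 k X (Groth.Agent.VarietyA.CurveFin.finrank_h0_structure k X)

theorem residueDegree_generic {X Y : Scheme.{u}} (π : X ⟶ Y) [IsIntegral X] [IsIntegral Y] [Surjective π] :
    letI := Divis.NormSheaf.alg π
    π.residueDegree (genericPoint X) = Module.finrank Y.functionField X.functionField := by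
  let := Divis.NormSheaf.alg π
  let : Algebra (Y.residueField (π (genericPoint X))) (X.residueField (genericPoint X)) :=
    (π.residueFieldMap (genericPoint X)).hom.toAlgebra
  refine (Algebra.finrank_eq_of_equiv_equiv (sY π) (sX X) ?_).symm
  ext a
  exact congr($(Scheme.residue_residueFieldMap π (genericPoint X)).hom
    (Y.presheaf.stalkSpecializes (specializes_of_eq (Divis.NormSheaf.map_genericPoint π)) a))

theorem residueDegree_eq_finrank {X Y : Scheme.{u}} (π : X ⟶ Y) [IsIntegral X] [IsIntegral Y] [IsFinite π] [Flat π]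
    [Surjective π] (y : Y) : π.residueDegree (genericPoint X) = π.finrank y := by
  rw [residueDegree_generic]
  exact (K423.FF.finrank_eq π (K423.FF.map_genericPoint_of_flat π) y).symm

variable {k} {C : Scheme.{u}}

/-- An involution with `2g + 2` fixed points makes the curve hyperelliptic. -/
theorem exists_cover [IsAlgClosed k] (h2 : (2 : k) ≠ 0) (p : C ⟶ Spec (CommRingCat.of k)) [IsProper p] [Smooth p]
    [ConnectedSpace C] (hC : topologicalKrullDim C = 1) (g : ℕ) (hg : @Curv2.genus k _ C ⟨p⟩ = g)
    (σ : C ⟶ C) (hσ : σ ≫ p = p) (hσσ : σ ≫ σ = 𝟙 C)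
    (hcard : Nat.card {x : C // IsClosed ({x} : Set C) ∧ σ x = x} = 2 * g + 2) :
    ∃ f : C ⟶ CohB1.ProjSpace 1 k, f ≫ CohB1.ProjSpace.toSpec 1 k = p ∧ IsFinite f ∧ Flat f ∧
        (∀ y : ↥(CohB1.ProjSpace 1 k), Scheme.Hom.finrank f y = 2) ∧
        ∃ V : C.Opens, (V : Set C).Nonempty ∧ Etale (V.ι ≫ f) := by
  let ovC : C.Over (Spec (CommRingCat.of k)) := ⟨p⟩
  have hp' : IsProper (C ↘ Spec (CommRingCat.of k)) := inferInstanceAs (IsProper p)
  have hint : IsIntegral C := K317.SmoothCurve.isIntegral_of_smooth k p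
  have hgc : GeometricallyConnected p := geometricallyConnected k p
  have hne : σ ≠ 𝟙 C := by
    rintro rfl
    have hinf := Groth.Agent.S14473.infinite_closedPoints p hC
    have h3 : Infinite {x : C // IsClosed ({x} : Set C) ∧ (𝟙 C : C ⟶ C) x = x} :=
      Infinite.of_injective (fun x : {x : C // IsClosed ({x} : Set C)} =>
        (⟨x.1, x.2, rfl⟩ : {x : C // IsClosed ({x} : Set C) ∧ (𝟙 C : C ⟶ C) x = x})) (fun a b hab => by
          have := congrArg Subtype.val hab
          exact Subtype.ext this)
    have h4 : Nat.card {x : C // IsClosed ({x} : Set C) ∧ (𝟙 C : C ⟶ C) x = x} = 0 := Nat.card_eq_zero_of_infinite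
    omega
  obtain ⟨Y, π, q, hq, hσπ, hepi, hfib, -, hpq, hsq, hgcq, hdY, hfin, hflat, hr⟩ :=
    InvolQuot.exists_quot k h2 p hC σ hσ hσσ hne
  let ovY : Y.Over (Spec (CommRingCat.of k)) := ⟨q⟩
  have hpY : IsProper (Y ↘ Spec (CommRingCat.of k)) := hpq
  have hsY : Smooth (Y ↘ Spec (CommRingCat.of k)) := hsq
  have hintY : IsIntegral Y := K533.CurveBasic.isIntegral q
  have hcount := InvolCount.card_fixed k h2 C Y hC hdY (Sga4B.SmoothNormal.isNormalScheme_of_smooth p)
    (Sga4B.SmoothNormal.isNormalScheme_of_smooth q) π hq hr (fun x => σ x) hfib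
  have e1 := euler_structure k C hC.le
  have e2 := euler_structure k Y hdY.le
  have hg' : Curv2.genus k C = g := hg
  rw [e1, e2, hg', hcard] at hcount
  have hgY : Curv2.genus k Y = 0 := by
    push_cast at hcount
    omega
  obtain ⟨L, hL, hLd⟩ := K321.RankTwo.exists_degree (k := k) (X := Y) hdY 1
  obtain ⟨e, he⟩ := K314.P1Recog.exists_iso_of_h0 k Y hdY (Groth.Agent.VarietyA.CurveFin.finrank_h0_structure k Y)
    hgY L hL hLd
  have hrank : ∀ y : ↥(CohB1.ProjSpace 1 k), Scheme.Hom.finrank (π ≫ e.hom) y = 2 := by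
    intro y
    obtain ⟨y', rfl⟩ : ∃ y' : Y, e.hom y' = y := ⟨e.inv y, by
      rw [← Scheme.Hom.comp_apply, e.inv_hom_id]
      rfl⟩
    have sq : IsPullback (𝟙 C) π (π ≫ e.hom) e.hom := IsPullback.of_horiz_isIso ⟨by simp⟩
    rw [← Scheme.Hom.finrank_of_isPullback _ _ _ _ sq y', hr]
  refine ⟨π ≫ e.hom, ?_, inferInstance, inferInstance, hrank, ?_⟩
  · rw [Category.assoc, he]
    exact hq
  · have hfl : Flat (π ≫ e.hom) := inferInstance
    have hgen := K423.FF.map_genericPoint_of_flat (π ≫ e.hom)
    have hLN : IsLocallyNoetherian (CohB1.ProjSpace 1 k) := by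
      have : IsProper (CohB1.ProjSpace.toSpec 1 k) := Groth.Agent.Ega3B.ProjProper.isProper_toSpec 1 k
      exact LocallyOfFiniteType.isLocallyNoetherian (CohB1.ProjSpace.toSpec 1 k)
    refine K425.GenEtale.exists_etale_of_isSeparable (π ≫ e.hom) hgen ?_
    let := (K423.FF.ff (π ≫ e.hom) hgen).hom.toAlgebra
    have h3 : Module.finrank (CohB1.ProjSpace 1 k).functionField C.functionField = 2 := by
      rw [← hrank (genericPoint _)]
      exact (K423.FF.finrank_eq (π ≫ e.hom) hgen (genericPoint _)).symm
    refine QuadSep.isSeparable ?_ h3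
    intro h
    let ovP : (CohB1.ProjSpace 1 k).Over (Spec (CommRingCat.of k)) := ⟨CohB1.ProjSpace.toSpec 1 k⟩
    have h4 : (2 : (CohB1.ProjSpace 1 k).residueField (genericPoint _)) = 0 := by
      have := congrArg ((CohB1.ProjSpace 1 k).residue (genericPoint _)).hom h
      rwa [map_ofNat, map_zero] at this
    apply h2
    apply (Curv2.resMap k (CohB1.ProjSpace 1 k) (genericPoint _)).injective
    rw [map_ofNat, h4, map_zero]

/-- A hyperelliptic curve has an involution with `2g + 2` fixed points. -/
theorem exists_invol [IsAlgClosed k] (h2 : (2 : k) ≠ 0) (p : C ⟶ Spec (CommRingCat.of k)) [IsProper p] [Smooth p]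
    [ConnectedSpace C] (hC : topologicalKrullDim C = 1) (g : ℕ) (hg : @Curv2.genus k _ C ⟨p⟩ = g)
    (f : C ⟶ CohB1.ProjSpace 1 k) (hf : f ≫ CohB1.ProjSpace.toSpec 1 k = p) [IsFinite f] [Flat f]
    (hr : ∀ y : ↥(CohB1.ProjSpace 1 k), Scheme.Hom.finrank f y = 2) :
    ∃ σ : C ⟶ C, σ ≫ p = p ∧ σ ≫ σ = 𝟙 C ∧ σ ≫ f = f ∧
        Nat.card {x : C // IsClosed ({x} : Set C) ∧ σ x = x} = 2 * g + 2 := by
  let ovC : C.Over (Spec (CommRingCat.of k)) := ⟨p⟩
  let ovP : (CohB1.ProjSpace 1 k).Over (Spec (CommRingCat.of k)) := ⟨CohB1.ProjSpace.toSpec 1 k⟩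
  have hp' : IsProper (C ↘ Spec (CommRingCat.of k)) := inferInstanceAs (IsProper p)
  have hint : IsIntegral C := K317.SmoothCurve.isIntegral_of_smooth k p
  have hgc : GeometricallyConnected p := geometricallyConnected k p
  have hpP : IsProper (CohB1.ProjSpace.toSpec 1 k) := Groth.Agent.Ega3B.ProjProper.isProper_toSpec 1 k
  have hpP' : IsProper ((CohB1.ProjSpace 1 k) ↘ Spec (CommRingCat.of k)) := hpP
  have hsP : Smooth (CohB1.ProjSpace.toSpec 1 k) := inferInstance
  have hnP := Sga4B.SmoothNormal.isNormalScheme_of_smooth (CohB1.ProjSpace.toSpec 1 k)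
  have hdP := K952.P1Core.dim_P1 k
  have hgen := K423.FF.map_genericPoint_of_flat f
  -- the involution of the function field
  let := (K423.FF.ff f hgen).hom.toAlgebra
  have h3 : Module.finrank (CohB1.ProjSpace 1 k).functionField C.functionField = 2 := by
    rw [← hr (genericPoint _)]
    exact (K423.FF.finrank_eq f hgen (genericPoint _)).symm
  have hsep : Algebra.IsSeparable (CohB1.ProjSpace 1 k).functionField C.functionField := by
    refine QuadSep.isSeparable ?_ h3
    intro h
    have h4 : (2 : (CohB1.ProjSpace 1 k).residueField (genericPoint _)) = 0 := by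
      have := congrArg ((CohB1.ProjSpace 1 k).residue (genericPoint _)).hom h
      rwa [map_ofNat, map_zero] at this
    apply h2
    apply (Curv2.resMap k (CohB1.ProjSpace 1 k) (genericPoint _)).injective
    rw [map_ofNat, h4, map_zero]
  obtain ⟨τ, hτ⟩ := QuadSep.exists_algEquiv (K := (CohB1.ProjSpace 1 k).functionField) (L := C.functionField) h3
  let e' : Spec C.functionField ≅ Spec C.functionField := Scheme.Spec.mapIso (τ.toRingEquiv.toCommRingCatIso).op
  have he'f : e'.hom ≫ C.fromSpecStalk (genericPoint C) ≫ f = C.fromSpecStalk (genericPoint C) ≫ f := by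
    rw [← K423.FF.spec_ff f hgen]
    have h5 : e'.hom ≫ Spec.map (K423.FF.ff f hgen) = Spec.map (K423.FF.ff f hgen) := by
      change Spec.map τ.toRingEquiv.toCommRingCatIso.hom ≫ _ = _
      rw [← Spec.map_comp]
      congr 1
      ext a
      exact τ.commutes a
    rw [← Category.assoc, h5]
  obtain ⟨i, hi, hi'⟩ := K322.CurveIso.exists_iso_of_functionField p p
    (fun x => Groth.Agent.Picfga.CurvePts.valuationRing_stalk p hC.le x)
    (fun x => Groth.Agent.Picfga.CurvePts.valuationRing_stalk p hC.le x) e' (by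
      rw [← hf, ← Category.assoc, ← Category.assoc, Category.assoc e'.hom, he'f, Category.assoc])
  have hif : i.hom ≫ f = f := by
    refine K423.FF.eq_of_generic _ _ (CohB1.ProjSpace.toSpec 1 k) ?_ ?_
    · rw [Category.assoc, hf, hi]
    · rw [← Category.assoc, hi', Category.assoc, he'f]
  have hne : i.hom ≠ 𝟙 C := by
    intro h
    rw [h, Category.comp_id] at hi'
    apply hτ
    have h6 : e'.hom = 𝟙 _ := by
      rw [← cancel_mono (C.fromSpecStalk (genericPoint C)), ← hi', Category.id_comp]
    have h7 : τ.toRingEquiv.toCommRingCatIso.hom = 𝟙 _ := by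
      apply Spec.map_injective
      rw [Spec.map_id]
      exact h6
    ext a
    exact congr($(h7).hom a)
  have hii : i.hom ≫ i.hom = 𝟙 C := by
    by_contra hcon
    obtain ⟨y⟩ : Nonempty (CohB1.ProjSpace 1 k) := inferInstance
    have h8 := K423.FF.endo_unique f y (hr y) (i.hom ≫ i.hom) i.hom (by rw [Category.assoc, hif, hif]) hif hcon hne
    apply hne
    rw [← cancel_epi i.hom, h8, Category.comp_id]
  refine ⟨i.hom, hi, hii, hif, ?_⟩
  -- the quotient is the projective line
  obtain ⟨Y, π, q, hq, hσπ, hepi, hfib, huniv, hpq, hsq, hgcq, hdY, hfin, hflat, hrY⟩ :=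
    InvolQuot.exists_quot k h2 p hC i.hom hi hii hne
  obtain ⟨h', hh', haff⟩ := huniv _ f hif
  have haff' : IsAffineHom h' := haff inferInstance
  have hintY : IsIntegral Y := K533.CurveBasic.isIntegral q
  have hh'q : h' ≫ CohB1.ProjSpace.toSpec 1 k = q := by
    rw [← cancel_epi π, ← Category.assoc, hh', hf, hq]
  have hproper : IsProper h' := by
    have : IsProper (h' ≫ CohB1.ProjSpace.toSpec 1 k) := hh'q ▸ hpq
    exact IsProper.of_comp h' (CohB1.ProjSpace.toSpec 1 k)
  have hfinh : IsFinite h' := by
    rw [IsFinite.iff_isProper_and_isAffineHom]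
    exact ⟨hproper, haff'⟩
  have hsurjf : Surjective f := K321.HurwBase.surjective_of_finite f hgen
  have hsurjπ : Surjective π := K321.HurwBase.surjective_of_finite π (K423.FF.map_genericPoint_of_flat π)
  have hsurjh : Surjective h' := by
    have : Surjective (π ≫ h') := hh'.symm ▸ hsurjf
    exact Surjective.of_comp π h'
  have hdeg : h'.residueDegree (genericPoint Y) = 1 := by
    have h9 := CycB.Push.residueDegree_comp π h' (genericPoint C)
    rw [hh', residueDegree_eq_finrank f (genericPoint _), hr, residueDegree_eq_finrank π (genericPoint _), hrY,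
      K423.FF.map_genericPoint_of_flat π] at h9
    omega
  have hiso : IsIso h' := Groth.Agent.S17377.isIso_of_finite_birational hnP h' hsurjh.surj hdeg
  have hinj : Function.Injective h' := (ConcreteCategory.bijective_of_isIso h'.base).1
  have hcount := InvolCount.card_fixed k h2 C (CohB1.ProjSpace 1 k) hC hdP
    (Sga4B.SmoothNormal.isNormalScheme_of_smooth p) hnP f hf hr (fun x => i.hom x) (by
      intro x x'
      rw [← hfib x x', ← hh']
      exact ⟨fun h => hinj h, fun h => congrArg h' h⟩)
  rw [euler_structure k C hC.le, euler_structure k (CohB1.ProjSpace 1 k) hdP.le, genus_P1,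
    show Curv2.genus k C = g from hg] at hcount
  push_cast at hcount
  omega

end K663.InvolMain
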