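import Groth.Agent.Curves.K754.QuotCurve
import Groth.Agent.Sga1.QuotExists
import Groth.Agent.S2925
import Groth.Agent.S2909
import Groth.Agent.Etdl.H146.AffineOpen

/-!
# The quotient of a smooth proper curve by an involution

`exists_quot`: existence and properties of the quotient.
-/

set_option autoImplicit false
universe u

open CategoryTheory CategoryTheory.Limits AlgebraicGeometry TopologicalSpace Opposite

namespace K663.InvolQuot

open Groth.Agent

variable {C : Scheme.{u}}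

/-- An involution as an automorphism. -/
def invIso (σ : C ⟶ C) (h : σ ≫ σ = 𝟙 C) : Aut C := ⟨σ, σ, h, h⟩

theorem invIso_sq (σ : C ⟶ C) (h : σ ≫ σ = 𝟙 C) : invIso σ h ^ 2 = 1 := by
  rw [pow_two]
  exact Iso.ext h

theorem mem_cases (σ : C ⟶ C) (h : σ ≫ σ = 𝟙 C) (g : Subgroup.zpowers (invIso σ h)) :
    (g : Aut C) = 1 ∨ (g : Aut C) = invIso σ h := by
  obtain ⟨g, n, rfl⟩ := g
  change invIso σ h ^ n = 1 ∨ invIso σ h ^ n = invIso σ h
  rcases Int.even_or_odd' n with ⟨m, rfl | rfl⟩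
  · left
    rw [zpow_mul, zpow_ofNat, invIso_sq, one_zpow]
  · right
    rw [zpow_add, zpow_mul, zpow_ofNat, invIso_sq, one_zpow, one_mul, zpow_one]

theorem card_zpowers (σ : C ⟶ C) (h : σ ≫ σ = 𝟙 C) (hne : σ ≠ 𝟙 C) :
    Nat.card (Subgroup.zpowers (invIso σ h)) = 2 := by
  rw [Nat.card_zpowers]
  refine orderOf_eq_prime (invIso_sq σ h) fun h1 => hne ?_
  exact congrArg Iso.hom h1

/-- The quotient of a curve by an involution. -/
theorem exists_quot (k : Type u) [Field k] (h2 : (2 : k) ≠ 0) (p : C ⟶ Spec (CommRingCat.of k)) [IsProper p] [Smooth p]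
    [GeometricallyConnected p] (hC : topologicalKrullDim ↥C = 1) (σ : C ⟶ C) (hσ : σ ≫ p = p) (hσσ : σ ≫ σ = 𝟙 C)
    (hne : σ ≠ 𝟙 C) :
    ∃ (Y : Scheme.{u}) (π : C ⟶ Y) (q : Y ⟶ Spec (CommRingCat.of k)), π ≫ q = p ∧ σ ≫ π = π ∧ Epi π ∧
      (∀ x x' : C, π x' = π x ↔ x' = x ∨ x' = σ x) ∧
      (∀ (Z : Scheme.{u}) (h : C ⟶ Z), σ ≫ h = h → ∃ h' : Y ⟶ Z, π ≫ h' = h ∧ (IsAffineHom h → IsAffineHom h')) ∧
      IsProper q ∧ Smooth q ∧ GeometricallyConnected q ∧ topologicalKrullDim ↥Y = 1 ∧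
      IsFinite π ∧ Flat π ∧ ∀ y : Y, π.finrank y = 2 := by
  have hN : IsNoetherian C := by
    have : IsLocallyNoetherian C := LocallyOfFiniteType.isLocallyNoetherian p
    have : CompactSpace C := by
      have : CompactSpace (Spec (CommRingCat.of k)) := inferInstance
      exact QuasiCompact.compactSpace_of_compactSpace p
    exact {}
  have hsep : C.IsSeparated := by
    rw [Scheme.isSeparated_iff, show terminal.from C = p ≫ terminal.from (Spec (CommRingCat.of k)) from
      terminal.hom_ext _ _]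
    infer_instance
  set s := invIso σ hσσ with hs
  set G := Subgroup.zpowers s with hG
  have hcard : Nat.card G = 2 := card_zpowers σ hσσ hne
  have hfin : Finite G := Nat.finite_of_card_ne_zero (by omega)
  let ρ : G →* Aut C := G.subtype
  have hρ : Function.Injective ρ := Subtype.val_injective
  have hcases : ∀ g : G, (ρ g).hom = 𝟙 C ∨ (ρ g).hom = σ := by
    intro g
    rcases mem_cases σ hσσ g with h | h
    · left
      exact congrArg Iso.hom h
    · right
      exact congrArg Iso.hom h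
  let g₀ : G := ⟨s, Subgroup.mem_zpowers s⟩
  have hg₀ : (ρ g₀).hom = σ := rfl
  have hinv : ∀ {Z : Scheme.{u}} (h : C ⟶ Z), σ ≫ h = h → ∀ g : G, (ρ g).hom ≫ h = h := by
    intro Z h hh g
    rcases hcases g with e | e
    · rw [e, Category.id_comp]
    · rw [e, hh]
  have hρk := hinv p hσ
  obtain ⟨Y, π, hquot⟩ := Sga1.QuotExists.exists_isQuot ρ (fun x => by
    obtain ⟨U, hU, hxU, -⟩ := Etdl.H146.AffineOpen.exists_affine_of_finite C hC.le {x, σ x} (Set.toFinite _)
    refine ⟨U, hU, fun g => ?_⟩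
    rcases hcases g with e | e
    · rw [e]
      exact hxU (Set.mem_insert _ _)
    · rw [e]
      exact hxU (Set.mem_insert_of_mem _ rfl))
  obtain ⟨q, hq, -⟩ := S2925.result ρ π hquot _ p hρk
  obtain ⟨h3, h4, h5, h6, h7, h8, h9⟩ := K754.QuotCurve.main k p hC (by
    rw [hcard]
    exact_mod_cast h2) ρ hρ hρk π q hq hquot
  have hepi : Epi π := by
    refine ⟨fun {Z} a b hab => ?_⟩
    have h10 : ∀ g : G, (ρ g).hom ≫ (π ≫ a) = π ≫ a := fun g => by rw [← Category.assoc, hquot.inv g]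
    exact (S2925.result ρ π hquot Z (π ≫ a) h10).unique rfl hab.symm
  refine ⟨Y, π, q, hq, hquot.inv g₀, hepi, ?_, ?_, h3, h4, h5, h6, h7, h8, fun y => (h9 y).trans hcard⟩
  · intro x x'
    rw [eq_comm, Sga1.QuotBasic.apply_eq_iff_of_isQuot hquot]
    constructor
    · rintro ⟨g, rfl⟩
      rcases hcases g with e | e
      · left
        rw [e]
        rfl
      · right
        rw [e]
    · rintro (rfl | rfl)
      · exact ⟨1, by
          rw [map_one]
          rfl⟩
      · exact ⟨g₀, rfl⟩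
  · intro Z h hh
    obtain ⟨h', hh', -⟩ := S2925.result ρ π hquot _ h (hinv h hh)
    exact ⟨h', hh', fun ha => (S2909.result ρ π hquot h h' hh' (hinv h hh)).1.1 ha⟩

end K663.InvolQuot
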