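import Mathlib.LinearAlgebra.FreeModule.PID
import Mathlib.LinearAlgebra.Dimension.Localization
import Mathlib.RingTheory.IntegralClosure.IntegrallyClosed
import Mathlib.LinearAlgebra.Dimension.FreeAndStrongRankCondition
import Mathlib.RingTheory.Localization.Integral
import Mathlib.RingTheory.Polynomial.RationalRoot
import Mathlib.Tactic.LinearCombination

/-!
# A domain finite of rank two over a principal ideal domain has a basis `1, y`
-/

set_option autoImplicit false

namespace K663.OneChart

variable {P A : Type*} [CommRing P] [IsDomain P] [CommRing A] [IsDomain A] [Algebra P A]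

/-- An element of `A` integral over `P` and contained in `Frac P` is in `P`. -/
theorem exists_eq_of_mul [IsIntegrallyClosed P] [Module.Finite P A]
    (hinj : Function.Injective (algebraMap P A)) {c b : P} (hc : c ≠ 0) {a : A}
    (h : algebraMap P A c * a = algebraMap P A b) : ∃ d : P, algebraMap P A d = a := by
  let K := FractionRing P
  let L := FractionRing A
  have hinj2 : Function.Injective (algebraMap A L) := IsFractionRing.injective A L
  let f : P →+* L := (algebraMap A L).comp (algebraMap P A)
  have hf : Function.Injective f := hinj2.comp hinj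
  let g : K →+* L := IsFractionRing.lift (A := P) (K := K) (g := f) hf
  have hg : ∀ p : P, g (algebraMap P K p) = algebraMap A L (algebraMap P A p) := fun p =>
    IsFractionRing.lift_algebraMap hf p
  have hgi : Function.Injective g := g.injective
  set z : K := algebraMap P K b / algebraMap P K c with hz
  have hcK : algebraMap P K c ≠ 0 := fun h0 => hc (IsFractionRing.injective P K (by rw [h0, map_zero]))
  have hgz : g z = algebraMap A L a := by
    have h1 : g z * g (algebraMap P K c) = g (algebraMap P K b) := by
      rw [← map_mul, hz, div_mul_cancel₀ _ hcK]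
    rw [hg, hg, ← h, map_mul] at h1
    have h2 : algebraMap A L (algebraMap P A c) ≠ 0 := by
      rw [← hg]
      exact (map_ne_zero_iff g hgi).2 hcK
    apply mul_right_cancel₀ h2
    rw [h1]; ring
  have hint : IsIntegral P a := Algebra.IsIntegral.isIntegral a
  have hzint : IsIntegral P z := by
    obtain ⟨q, hq, hq0⟩ := hint
    refine ⟨q, hq, hgi ?_⟩
    rw [map_zero, Polynomial.hom_eval₂, hgz]
    have h3 : g.comp (algebraMap P K) = (algebraMap A L).comp (algebraMap P A) := RingHom.ext hg
    rw [h3, ← Polynomial.hom_eval₂, hq0, map_zero]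
  obtain ⟨d, hd⟩ := IsIntegrallyClosed.isIntegral_iff.1 hzint
  refine ⟨d, hinj2 ?_⟩
  rw [← hg, hd, hgz]

theorem exists_basis [IsPrincipalIdealRing P] [Module.Finite P A]
    (hinj : Function.Injective (algebraMap P A)) (h2 : Module.finrank P A = 2) :
    ∃ y : A, (∀ a : A, ∃ p q : P, a = algebraMap P A p + algebraMap P A q * y) ∧
      ∀ p q : P, algebraMap P A p + algebraMap P A q * y = 0 → p = 0 ∧ q = 0 := by
  set S : Submodule P A := LinearMap.range (Algebra.linearMap P A) with hS
  have hmem : ∀ a : A, a ∈ S ↔ ∃ p, algebraMap P A p = a := fun a => Iff.rfl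
  have htf : Module.IsTorsionFree P (A ⧸ S) := by
    refine Module.IsTorsionFree.of_smul_eq_zero fun c m hm => ?_
    obtain ⟨a, rfl⟩ := S.mkQ_surjective m
    by_cases hc : c = 0
    · exact Or.inl hc
    right
    have h1 : c • a ∈ S := by
      rw [← Submodule.Quotient.mk_eq_zero]; exact hm
    obtain ⟨b, hb⟩ := (hmem _).1 h1
    rw [Algebra.smul_def] at hb
    obtain ⟨d, hd⟩ := exists_eq_of_mul hinj hc hb.symm
    exact (Submodule.Quotient.mk_eq_zero S).2 ((hmem _).2 ⟨d, hd⟩)
  have h3 := Submodule.finrank_quotient_add_finrank S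
  have h4 : Module.finrank P S = 1 := by
    rw [← (LinearEquiv.ofInjective (Algebra.linearMap P A) hinj).finrank_eq, Module.finrank_self]
  have h5 : Module.finrank P (A ⧸ S) = 1 := by omega
  let b := Module.finBasisOfFinrankEq P (A ⧸ S) h5
  obtain ⟨y, hy⟩ := S.mkQ_surjective (b 0)
  refine ⟨y, fun a => ?_, fun p q h => ?_⟩
  · have h6 : S.mkQ a = b.repr (S.mkQ a) 0 • S.mkQ y := by
      rw [hy]
      conv_lhs => rw [← b.sum_repr (S.mkQ a)]
      simp
    rw [← map_smul, ← sub_eq_zero, ← map_sub] at h6
    obtain ⟨p, hp⟩ := (hmem _).1 ((Submodule.Quotient.mk_eq_zero S).1 h6)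
    refine ⟨p, b.repr (S.mkQ a) 0, ?_⟩
    rw [hp, ← Algebra.smul_def]
    ring
  · have h6 : q • b 0 = 0 := by
      rw [← hy, ← map_smul]
      refine (Submodule.Quotient.mk_eq_zero S).2 ((hmem _).2 ⟨-p, ?_⟩)
      rw [map_neg, Algebra.smul_def]
      linear_combination -h
    have h7 : q = 0 := by
      have := congrArg (fun v => b.repr v 0) h6
      simpa using this
    refine ⟨?_, h7⟩
    rw [h7, map_zero, zero_mul, add_zero] at h
    exact hinj (by rw [h, map_zero])

end K663.OneChart
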