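import Groth.Agent.Curves.K663.TwoAlg
import Groth.Agent.Curves.K663.OneChart
import Groth.Agent.Picfga.P1Def
import Groth.Agent.Picfga.ChiCech
import Groth.Agent.CurvesC.UnitCoh
import Groth.Agent.Ega3B.NormalBirational
import Groth.Prelude.Def_Curv2
import Mathlib.RingTheory.Flat.TorsionFree

/-!
# Double covers of the projective line: the two charts

`P : P1Data f` a finite flat map to the projective line in the form of two charts, `X` integral and normal with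
`H^0(X, O) = k`: if the rank is two there is `y` with `Γ(U₀) = k[t₀] + k[t₀] y`, `y² + q(t₀) y = p(t₀)` and
`2 g + 1 ≤ max (deg p) (2 deg q) ≤ 2 g + 2`.
-/

set_option autoImplicit false
set_option backward.isDefEq.respectTransparency false
universe u

open CategoryTheory CategoryTheory.Limits AlgebraicGeometry Opposite TopologicalSpace Polynomial
open Groth.Agent.Fdesc.LocGen Groth.Agent Groth.Agent.Picfga Groth.Agent.Picfga.P1Def

namespace K663.P1Core

variable {k : Type u} [Field k] {X : Scheme.{u}} (f : X ⟶ Spec (CommRingCat.of k))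

/-- Functions on `U` as a `k`-algebra. -/
@[nolint unusedArguments]
def Fn {k : Type u} [Field k] {X : Scheme.{u}} (_ : X ⟶ Spec (CommRingCat.of k)) (U : X.Opens) : Type u :=
  Γ(X, U)

noncomputable instance (U : X.Opens) : CommRing (Fn f U) := inferInstanceAs (CommRing Γ(X, U))

noncomputable instance (U : X.Opens) : Algebra k (Fn f U) := (strMap f U).toAlgebra

theorem algebraMap_eq (U : X.Opens) : algebraMap k (Fn f U) = strMap f U := rfl

theorem ores_strMap {U V : X.Opens} (h : V ≤ U) (c : k) : ores h (strMap f U c) = strMap f V c := by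
  unfold strMap ores
  rw [← CommRingCat.comp_apply]
  congr 2
  rw [Category.assoc]
  congr 1
  rw [Scheme.Hom.appLE_map]

/-- A function as an element of the algebra. -/
def toFn {U : X.Opens} (a : Γ(X, U)) : Fn f U := a

/-- Restriction of functions. -/
noncomputable def rs {U V : X.Opens} (h : V ≤ U) : Fn f U →ₐ[k] Fn f V where
  __ := (ores h : Γ(X, U) →+* Γ(X, V))
  commutes' c := ores_strMap f h c

theorem rs_apply {U V : X.Opens} (h : V ≤ U) (a : Fn f U) : rs f h a = (ores h (a : Γ(X, U)) : Γ(X, V)) := rfl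

theorem rs_injective [IsIntegral X] {U V : X.Opens} (h : V ≤ U) [Nonempty V] : Function.Injective (rs f h) :=
  map_injective_of_isIntegral X (homOfLE h)

instance [IsIntegral X] (U : X.Opens) [Nonempty U] : IsDomain (Fn f U) := inferInstanceAs (IsDomain Γ(X, U))

/-- Functions on a basic open. -/
theorem exists_pow {U V : X.Opens} (hU : IsAffineOpen U) (t : Γ(X, U)) (hV : V = X.basicOpen t) (hle : V ≤ U)
    (r : Fn f V) : ∃ (n : ℕ) (a : Fn f U), rs f hle t ^ n * r = rs f hle a := by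
  subst hV
  have := hU.isLocalization_basicOpen t
  obtain ⟨⟨a, s, n, hs⟩, h⟩ := IsLocalization.surj (Submonoid.powers t) (S := Γ(X, X.basicOpen t)) r
  refine ⟨n, a, ?_⟩
  have hs' : (s : Γ(X, U)) = t ^ n := hs.symm
  have e : algebraMap Γ(X, U) Γ(X, X.basicOpen t) = ores hle := rfl
  have h2 : (ores hle (t ^ n)) * (show Γ(X, X.basicOpen t) from r) = ores hle a := by
    rw [← hs', mul_comm]; exact h
  rw [map_pow] at h2
  exact h2

theorem str_eq (U : X.Opens) : letI : X.Over (Spec (CommRingCat.of k)) := ⟨f⟩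
    ChiCech.str k U = strMap f U := by
  letI : X.Over (Spec (CommRingCat.of k)) := ⟨f⟩
  rfl

/-- Sections of the structure module are functions. -/
noncomputable def secEquiv (U : X.Opens) : letI : X.Over (Spec (CommRingCat.of k)) := ⟨f⟩
    ChiCech.SecA k (Coh.structureModule X) U ≃ₗ[k] Fn f U :=
  letI : X.Over (Spec (CommRingCat.of k)) := ⟨f⟩
  { toFun := fun m => m
    invFun := fun m => m
    left_inv := fun _ => rfl
    right_inv := fun _ => rfl
    map_add' := fun _ _ => rfl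
    map_smul' := fun _ _ => rfl }

variable (P : P1Data f)

/-- Global functions are constants, in terms of the two charts. -/
theorem exists_const [IsIntegral X]
    (h0 : letI : X.Over (Spec (CommRingCat.of k)) := ⟨f⟩
      Module.finrank k (Coh.HH X (Coh.structureModule X) 0) = 1)
    [Nonempty (P.U₀ ⊓ P.U₁ : X.Opens)] (r : Fn f (P.U₀ ⊓ P.U₁)) (a : Fn f P.U₀) (b : Fn f P.U₁)
    (ha : rs f inf_le_left a = r) (hb : rs f inf_le_right b = r) : ∃ c : k, r = algebraMap k _ c := by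
  letI : X.Over (Spec (CommRingCat.of k)) := ⟨f⟩
  rw [(ChiCech.h0Equiv k (Coh.structureModule X) P.sup).finrank_eq] at h0
  let one₀ : ChiCech.SecA k (Coh.structureModule X) P.U₀ := (secEquiv f P.U₀).symm 1
  let one₁ : ChiCech.SecA k (Coh.structureModule X) P.U₁ := (secEquiv f P.U₁).symm 1
  have hd : ∀ (v : Fn f P.U₀) (w : Fn f P.U₁), secEquiv f _ (ChiCech.cechD k (Coh.structureModule X) P.U₀ P.U₁
      ((secEquiv f _).symm v, (secEquiv f _).symm w)) = rs f inf_le_left v - rs f inf_le_right w := fun v w => rfl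
  have hmem : ∀ (v : Fn f P.U₀) (w : Fn f P.U₁), rs f inf_le_left v = rs f inf_le_right w →
      ((secEquiv f _).symm v, (secEquiv f _).symm w) ∈
        LinearMap.ker (ChiCech.cechD k (Coh.structureModule X) P.U₀ P.U₁) := by
    intro v w h
    rw [LinearMap.mem_ker]
    apply (secEquiv f _).injective
    rw [hd, h, sub_self, map_zero]
  let e1 : LinearMap.ker (ChiCech.cechD k (Coh.structureModule X) P.U₀ P.U₁) :=
    ⟨_, hmem 1 1 (by rw [map_one, map_one])⟩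
  have he1 : e1 ≠ 0 := by
    intro h
    have h2 : (secEquiv f P.U₀).symm (1 : Fn f P.U₀) = 0 := congrArg (fun z => z.1.1) h
    rw [LinearEquiv.map_eq_zero_iff] at h2
    have h3 := congrArg (rs f (inf_le_left : P.U₀ ⊓ P.U₁ ≤ P.U₀)) h2
    rw [map_one, map_zero] at h3
    exact one_ne_zero h3
  obtain ⟨v, hv, hspan⟩ := finrank_eq_one_iff'.mp h0
  obtain ⟨c, hc⟩ := hspan e1
  obtain ⟨d, hd'⟩ := hspan ⟨_, hmem a b (by rw [ha, hb])⟩
  have hc0 : c ≠ 0 := by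
    rintro rfl
    rw [zero_smul] at hc
    exact he1 hc.symm
  refine ⟨d * c⁻¹, ?_⟩
  have h4 : (d * c⁻¹) • e1 = ⟨_, hmem a b (by rw [ha, hb])⟩ := by
    rw [← hd', ← hc, smul_smul, mul_assoc, inv_mul_cancel₀ hc0, mul_one]
  have h5 : (d * c⁻¹) • (secEquiv f P.U₀).symm (1 : Fn f P.U₀) = (secEquiv f P.U₀).symm a :=
    congrArg (fun z => z.1.1) h4
  rw [← map_smul, (secEquiv f P.U₀).symm.injective.eq_iff] at h5
  rw [← ha, ← h5, map_smul, map_one, Algebra.algebraMap_eq_smul_one]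

/-- The submodule of sums. -/
noncomputable def sums : Submodule k (Fn f (P.U₀ ⊓ P.U₁)) :=
  (rs f (inf_le_left : P.U₀ ⊓ P.U₁ ≤ P.U₀)).range.toSubmodule ⊔
    (rs f (inf_le_right : P.U₀ ⊓ P.U₁ ≤ P.U₁)).range.toSubmodule

theorem mem_sums (a : Fn f (P.U₀ ⊓ P.U₁)) : a ∈ sums f P ↔
    ∃ b ∈ (rs f (inf_le_left : P.U₀ ⊓ P.U₁ ≤ P.U₀)).range,
      ∃ c ∈ (rs f (inf_le_right : P.U₀ ⊓ P.U₁ ≤ P.U₁)).range, a = b + c := by
  rw [sums, Submodule.mem_sup]
  constructor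
  · rintro ⟨b, hb, c, hc, rfl⟩
    exact ⟨b, hb, c, hc, rfl⟩
  · rintro ⟨b, hb, c, hc, rfl⟩
    exact ⟨b, hb, c, hc, rfl⟩

/-- The genus is the dimension of the cokernel. -/
theorem finrank_quotient_eq : letI : X.Over (Spec (CommRingCat.of k)) := ⟨f⟩
    Module.finrank k (Fn f (P.U₀ ⊓ P.U₁) ⧸ sums f P) = Curv2.genus k X := by
  letI : X.Over (Spec (CommRingCat.of k)) := ⟨f⟩
  have e := ChiCech.h1Equiv k (Coh.structureModule X) (CurvesC.UnitCoh.isQCoh_unit X) P.sup P.affine₀ P.affine₁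
  have e2 : Curv2.genus k X = Module.finrank k (Coh.HH X (Coh.structureModule X) 1) := rfl
  rw [e2, ← e.finrank_eq]
  refine (Submodule.Quotient.equiv _ _ (secEquiv f (P.U₀ ⊓ P.U₁)) ?_).finrank_eq.symm
  ext z
  rw [mem_sums]
  constructor
  · rintro ⟨w, ⟨⟨a, b⟩, rfl⟩, rfl⟩
    refine ⟨_, ⟨secEquiv f _ a, rfl⟩, _, ⟨- secEquiv f _ b, rfl⟩, ?_⟩
    change rs f inf_le_left (secEquiv f _ a) - rs f inf_le_right (secEquiv f _ b) =
      rs f inf_le_left (secEquiv f _ a) + rs f inf_le_right (- secEquiv f _ b)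
    rw [map_neg, sub_eq_add_neg]
  · rintro ⟨_, ⟨a, rfl⟩, _, ⟨b, rfl⟩, rfl⟩
    refine ⟨_, ⟨((secEquiv f _).symm a, (secEquiv f _).symm (-b)), rfl⟩, ?_⟩
    change rs f inf_le_left a - rs f inf_le_right (-b) = rs f inf_le_left a + rs f inf_le_right b
    rw [map_neg, sub_neg_eq_add]

omit P in
/-- Integral elements. -/
theorem mem_range_of_quad [IsIntegral X] (hn : ∀ x : X, IsIntegrallyClosed (X.presheaf.stalk x)) {U V : X.Opens}
    (hU : IsAffineOpen U) (h : V ≤ U) [Nonempty U] [Nonempty V] (z : Fn f V) (a b : Fn f U)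
    (e : z ^ 2 + rs f h b * z = rs f h a) : z ∈ (rs f h).range := by
  have h1 : IsIntegrallyClosed Γ(X, U) := Ega3B.NormalBirational.isIntegrallyClosed_section hn U hU
  have h2 : IsFractionRing Γ(X, U) X.functionField := functionField_isFractionRing_of_isAffineOpen X U hU
  let z' : Γ(X, V) := z
  let a' : Γ(X, U) := a
  let b' : Γ(X, U) := b
  have e' : z' ^ 2 + ores h b' * z' = ores h a' := e
  have hg : ∀ c : Γ(X, U), (X.germToFunctionField V).hom (ores h c) = algebraMap Γ(X, U) X.functionField c := by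
    intro c
    exact X.presheaf.germ_res_apply (homOfLE h) _ _ c
  have hi : Function.Injective (X.germToFunctionField V).hom := Scheme.germToFunctionField_injective X V
  have hz : _root_.IsIntegral Γ(X, U) ((X.germToFunctionField V).hom z') := by
    refine ⟨Polynomial.X ^ 2 + C b' * Polynomial.X - C a', by monicity!, ?_⟩
    have e2 := congrArg (X.germToFunctionField V).hom e'
    rw [map_add, map_mul, map_pow, hg, hg] at e2
    simp only [eval₂_sub, eval₂_add, eval₂_mul, eval₂_X_pow, eval₂_C, eval₂_X]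
    rw [e2, sub_self]
  obtain ⟨c, hc⟩ := IsIntegrallyClosed.isIntegral_iff.1 hz
  refine ⟨c, hi ?_⟩
  exact (hg c).trans hc

omit P in
/-- The coordinate ring of one chart. -/
theorem exists_chart [IsIntegral X] {U V : X.Opens} (h : V ≤ U) [Nonempty U] [Nonempty V] (t : Γ(X, U))
    (hfin : (eval₂RingHom (strMap f U) t).Finite) (hflat : (eval₂RingHom (strMap f U) t).Flat)
    (hr : letI := (eval₂RingHom (strMap f U) t).toAlgebra
      Module.finrank k[X] Γ(X, U) = 2) :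
    ∃ y : Fn f U, (∀ a : Fn f U, ∃ p q : k[X], a = aeval (toFn f t) p + aeval (toFn f t) q * y) ∧
      (∀ p q : k[X], aeval (toFn f t) p + aeval (toFn f t) q * y = 0 → p = 0 ∧ q = 0) ∧
      TwoAlg.Bas (rs f h (toFn f t)) (rs f h).range (rs f h y) := by
  letI : Algebra k[X] (Fn f U) := (eval₂RingHom (strMap f U) t).toAlgebra
  have e : ∀ p : k[X], algebraMap k[X] (Fn f U) p = aeval (toFn f t) p := fun p => rfl
  have hfin' : Module.Finite k[X] (Fn f U) := hfin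
  have hflat' : Module.Flat k[X] (Fn f U) := hflat
  have hinj : Function.Injective (algebraMap k[X] (Fn f U)) := by
    have : Module.IsTorsionFree k[X] (Fn f U) := inferInstance
    exact FaithfulSMul.algebraMap_injective _ _
  obtain ⟨y, hs, hu⟩ := OneChart.exists_basis hinj hr
  refine ⟨y, hs, hu, ⟨fun a => ⟨?_, ?_⟩, fun p q h0 => ?_⟩⟩
  · rintro ⟨b, rfl⟩
    obtain ⟨p, q, hb⟩ := hs b
    refine ⟨p, q, ?_⟩
    rw [aeval_algHom_apply, aeval_algHom_apply, ← map_mul, ← map_add, ← e, ← e, ← hb]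
    rfl
  · rintro ⟨p, q, rfl⟩
    refine ⟨aeval (toFn f t) p + aeval (toFn f t) q * y, ?_⟩
    rw [aeval_algHom_apply, aeval_algHom_apply, ← map_mul, ← map_add]
    rfl
  · rw [aeval_algHom_apply, aeval_algHom_apply, ← map_mul, ← map_add] at h0
    exact hu p q (rs_injective f h (by rw [map_zero]; exact h0))

/-- **The normal form of a double cover of the projective line.** -/
theorem exists_normal [IsIntegral X]
    (h0 : letI : X.Over (Spec (CommRingCat.of k)) := ⟨f⟩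
      Module.finrank k (Coh.HH X (Coh.structureModule X) 0) = 1)
    (hr₀ : letI := (eval₂RingHom (strMap f P.U₀) P.t₀).toAlgebra
      Module.finrank k[X] Γ(X, P.U₀) = 2)
    (hr₁ : letI := (eval₂RingHom (strMap f P.U₁) P.t₁).toAlgebra
      Module.finrank k[X] Γ(X, P.U₁) = 2) (g : ℕ)
    (hg : letI : X.Over (Spec (CommRingCat.of k)) := ⟨f⟩
      Curv2.genus k X = g) :
    Nonempty P.U₁ ∧ Nonempty (P.U₀ ⊓ P.U₁ : X.Opens) ∧ ∃ y : Fn f P.U₀,
      TwoAlg.Bas (rs f (inf_le_left : P.U₀ ⊓ P.U₁ ≤ P.U₀) (toFn f P.t₀))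
        (rs f (inf_le_left : P.U₀ ⊓ P.U₁ ≤ P.U₀)).range (rs f (inf_le_left : P.U₀ ⊓ P.U₁ ≤ P.U₀) y) ∧
      TwoAlg.Bas (rs f (inf_le_right : P.U₀ ⊓ P.U₁ ≤ P.U₁) (toFn f P.t₁))
        (rs f (inf_le_right : P.U₀ ⊓ P.U₁ ≤ P.U₁)).range
        (rs f (inf_le_right : P.U₀ ⊓ P.U₁ ≤ P.U₁) (toFn f P.t₁) ^ (g + 1) *
          rs f (inf_le_left : P.U₀ ⊓ P.U₁ ≤ P.U₀) y) := by
  have hne : ∀ (U : X.Opens) (t : Γ(X, U)), (letI := (eval₂RingHom (strMap f U) t).toAlgebra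
      Module.finrank k[X] Γ(X, U) = 2) → Nonempty U := by
    intro U t h
    letI := (eval₂RingHom (strMap f U) t).toAlgebra
    by_contra hU
    have hU' : U = ⊥ := by
      ext x
      simp only [SetLike.mem_coe, Opens.coe_bot, Set.mem_empty_iff_false, iff_false]
      intro hx
      exact hU ⟨⟨x, hx⟩⟩
    subst hU'
    have : Subsingleton Γ(X, ⊥) := inferInstance
    have h2 : Module.finrank k[X] Γ(X, ⊥) = 0 := Module.finrank_zero_of_subsingleton
    rw [h2] at h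
    exact absurd h (by norm_num)
  have hU₀ : Nonempty P.U₀ := hne _ _ hr₀
  have hU₁ : Nonempty P.U₁ := hne _ _ hr₁
  have hU₀₁ : Nonempty (P.U₀ ⊓ P.U₁ : X.Opens) := by
    obtain ⟨x⟩ := hU₀
    obtain ⟨y⟩ := hU₁
    obtain ⟨z, hz⟩ := nonempty_preirreducible_inter P.U₀.isOpen P.U₁.isOpen ⟨x.1, x.2⟩ ⟨y.1, y.2⟩
    exact ⟨⟨z, hz⟩⟩
  refine ⟨hU₁, hU₀₁, ?_⟩
  have hl : (P.U₀ ⊓ P.U₁ : X.Opens) ≤ P.U₀ := inf_le_left
  have hrt : (P.U₀ ⊓ P.U₁ : X.Opens) ≤ P.U₁ := inf_le_right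
  obtain ⟨y₀, hs₀, hu₀, b₀⟩ := exists_chart f hl P.t₀ P.finite₀ P.flat₀ hr₀
  obtain ⟨y₁, hs₁, hu₁, b₁⟩ := exists_chart f hrt P.t₁ P.finite₁ P.flat₁ hr₁
  set x : Fn f (P.U₀ ⊓ P.U₁) := rs f hl (toFn f P.t₀) with hx
  set u : Fn f (P.U₀ ⊓ P.U₁) := rs f hrt (toFn f P.t₁) with hu
  have hxu : x * u = 1 := P.mul
  have htop₀ : ∀ r : Fn f (P.U₀ ⊓ P.U₁), ∃ N : ℕ, x ^ N * r ∈ (rs f hl).range := by
    intro r
    obtain ⟨n, a, h⟩ := exists_pow f P.affine₀ P.t₀ P.inf₀ hl r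
    exact ⟨n, a, h.symm⟩
  have htop₁ : ∀ r : Fn f (P.U₀ ⊓ P.U₁), ∃ N : ℕ, u ^ N * r ∈ (rs f hrt).range := by
    intro r
    obtain ⟨n, a, h⟩ := exists_pow f P.affine₁ P.t₁ P.inf₁ hrt r
    exact ⟨n, a, h.symm⟩
  obtain ⟨n, y, hn1, B₀, B₁⟩ := TwoAlg.exists_normal hxu b₀ b₁ (fun a _ => htop₀ a) (fun a _ => htop₁ a)
    (fun a ha hb => by
      obtain ⟨v, hv⟩ := ha
      obtain ⟨w, hw⟩ := hb
      exact exists_const f P h0 a v w hv hw)
  have hgen : n - 1 = g := by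
    rw [← hg, ← finrank_quotient_eq f P]
    exact (TwoAlg.finrank_quotient hxu hn1 B₀ B₁ htop₀ (mem_sums f P)).symm
  have hng : n = g + 1 := by omega
  subst hng
  obtain ⟨y', hy'⟩ : y ∈ (rs f hl).range := B₀.mem_y
  refine ⟨y', ?_, ?_⟩
  · have e : rs f hl y' = y := hy'
    rw [e]; exact B₀
  · have e : rs f hl y' = y := hy'
    rw [e]; exact B₁

/-- The chart. -/
theorem span_and_uniq [IsIntegral X] [Nonempty (P.U₀ ⊓ P.U₁ : X.Opens)] {y : Fn f P.U₀}
    (B₀ : TwoAlg.Bas (rs f (inf_le_left : P.U₀ ⊓ P.U₁ ≤ P.U₀) (toFn f P.t₀))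
        (rs f (inf_le_left : P.U₀ ⊓ P.U₁ ≤ P.U₀)).range (rs f (inf_le_left : P.U₀ ⊓ P.U₁ ≤ P.U₀) y)) :
    (∀ a : Fn f P.U₀, ∃ p q : k[X], a = aeval (toFn f P.t₀) p + aeval (toFn f P.t₀) q * y) ∧
      (∀ p q : k[X], aeval (toFn f P.t₀) p + aeval (toFn f P.t₀) q * y = 0 → p = 0 ∧ q = 0) := by
  have hl : (P.U₀ ⊓ P.U₁ : X.Opens) ≤ P.U₀ := inf_le_left
  have hae : ∀ p : k[X], aeval (rs f hl (toFn f P.t₀)) p = rs f hl (aeval (toFn f P.t₀) p) := fun p => by
    rw [aeval_algHom_apply]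
  have hinj := rs_injective f hl
  refine ⟨fun a => ?_, fun p q h => ?_⟩
  · obtain ⟨p, q, h⟩ := (B₀.mem_iff (rs f hl a)).1 ⟨a, rfl⟩
    refine ⟨p, q, hinj ?_⟩
    rw [h, map_add, map_mul, ← hae, ← hae]
  · apply B₀.uniq p q
    rw [hae, hae]
    have := congrArg (rs f hl) h
    rw [map_add, map_mul, map_zero] at this
    exact this

/-- The lower bound for the degree. -/
theorem lower_bound [IsIntegral X] (hn : ∀ x : X, IsIntegrallyClosed (X.presheaf.stalk x))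
    [Nonempty P.U₁] [Nonempty (P.U₀ ⊓ P.U₁ : X.Opens)] {y : Fn f P.U₀} {g : ℕ}
    (B₁ : TwoAlg.Bas (rs f (inf_le_right : P.U₀ ⊓ P.U₁ ≤ P.U₁) (toFn f P.t₁))
        (rs f (inf_le_right : P.U₀ ⊓ P.U₁ ≤ P.U₁)).range
        (rs f (inf_le_right : P.U₀ ⊓ P.U₁ ≤ P.U₁) (toFn f P.t₁) ^ (g + 1) *
          rs f (inf_le_left : P.U₀ ⊓ P.U₁ ≤ P.U₀) y)) {p q : k[X]}
    (e : y ^ 2 + aeval (toFn f P.t₀) q * y = aeval (toFn f P.t₀) p) :
    2 * g + 1 ≤ max p.natDegree (2 * q.natDegree) := by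
  have hl : (P.U₀ ⊓ P.U₁ : X.Opens) ≤ P.U₀ := inf_le_left
  have hrt : (P.U₀ ⊓ P.U₁ : X.Opens) ≤ P.U₁ := inf_le_right
  have hxu : rs f hl (toFn f P.t₀) * rs f hrt (toFn f P.t₁) = 1 := P.mul
  have hic : ∀ z : Fn f (P.U₀ ⊓ P.U₁), (∃ a ∈ (rs f hrt).range, ∃ b ∈ (rs f hrt).range, z ^ 2 + b * z = a) →
      z ∈ (rs f hrt).range := by
    rintro z ⟨_, ⟨a, rfl⟩, _, ⟨b, rfl⟩, e⟩
    exact mem_range_of_quad f hn P.affine₁ hrt z a b e
  have hae : ∀ p : k[X], aeval (rs f hl (toFn f P.t₀)) p = rs f hl (aeval (toFn f P.t₀) p) := fun p => by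
    rw [aeval_algHom_apply]
  have e' := congrArg (rs f hl) e
  rw [map_add, map_mul, map_pow, ← hae, ← hae] at e'
  have := TwoAlg.lower_bound hxu (by omega : 1 ≤ g + 1) B₁ hic e'
  omega

/-- The equation of a double cover of the projective line. -/
theorem exists_equation [IsIntegral X] (hn : ∀ x : X, IsIntegrallyClosed (X.presheaf.stalk x))
    (h0 : letI : X.Over (Spec (CommRingCat.of k)) := ⟨f⟩
      Module.finrank k (Coh.HH X (Coh.structureModule X) 0) = 1)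
    (hr₀ : letI := (eval₂RingHom (strMap f P.U₀) P.t₀).toAlgebra
      Module.finrank k[X] Γ(X, P.U₀) = 2)
    (hr₁ : letI := (eval₂RingHom (strMap f P.U₁) P.t₁).toAlgebra
      Module.finrank k[X] Γ(X, P.U₁) = 2) (g : ℕ)
    (hg : letI : X.Over (Spec (CommRingCat.of k)) := ⟨f⟩
      Curv2.genus k X = g) :
    ∃ (y : Fn f P.U₀) (p q : k[X]),
      (∀ a : Fn f P.U₀, ∃ p q : k[X], a = aeval (toFn f P.t₀) p + aeval (toFn f P.t₀) q * y) ∧
      (∀ p q : k[X], aeval (toFn f P.t₀) p + aeval (toFn f P.t₀) q * y = 0 → p = 0 ∧ q = 0) ∧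
      y ^ 2 + aeval (toFn f P.t₀) q * y = aeval (toFn f P.t₀) p ∧
      2 * g + 1 ≤ max p.natDegree (2 * q.natDegree) ∧ p.natDegree ≤ 2 * g + 2 ∧ q.natDegree ≤ g + 1 := by
  obtain ⟨hU₁, hU₀₁, y, B₀, B₁⟩ := exists_normal f P h0 hr₀ hr₁ g hg
  have hl : (P.U₀ ⊓ P.U₁ : X.Opens) ≤ P.U₀ := inf_le_left
  have hrt : (P.U₀ ⊓ P.U₁ : X.Opens) ≤ P.U₁ := inf_le_right
  have hxu : rs f hl (toFn f P.t₀) * rs f hrt (toFn f P.t₁) = 1 := P.mul
  obtain ⟨p, q, e, hp, hq⟩ := TwoAlg.exists_equation hxu B₀ B₁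
  have hae : ∀ p : k[X], aeval (rs f hl (toFn f P.t₀)) p = rs f hl (aeval (toFn f P.t₀) p) := fun p => by
    rw [aeval_algHom_apply]
  have e' : y ^ 2 + aeval (toFn f P.t₀) q * y = aeval (toFn f P.t₀) p := by
    apply rs_injective f hl
    rw [map_add, map_mul, map_pow, ← hae, ← hae]
    exact e
  obtain ⟨hs, hu⟩ := span_and_uniq f P B₀
  exact ⟨y, p, q, hs, hu, e', lower_bound f P hn B₁ e', by omega, hq⟩

/-- The equation of a double cover of the projective line, when `2` is invertible. -/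
theorem exists_equation_two [IsIntegral X] (hn : ∀ x : X, IsIntegrallyClosed (X.presheaf.stalk x))
    (h2 : (2 : k) ≠ 0)
    (h0 : letI : X.Over (Spec (CommRingCat.of k)) := ⟨f⟩
      Module.finrank k (Coh.HH X (Coh.structureModule X) 0) = 1)
    (hr₀ : letI := (eval₂RingHom (strMap f P.U₀) P.t₀).toAlgebra
      Module.finrank k[X] Γ(X, P.U₀) = 2)
    (hr₁ : letI := (eval₂RingHom (strMap f P.U₁) P.t₁).toAlgebra
      Module.finrank k[X] Γ(X, P.U₁) = 2) (g : ℕ)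
    (hg : letI : X.Over (Spec (CommRingCat.of k)) := ⟨f⟩
      Curv2.genus k X = g) :
    Nonempty P.U₁ ∧ Nonempty (P.U₀ ⊓ P.U₁ : X.Opens) ∧ ∃ (y : Fn f P.U₀) (p : k[X]),
      y ^ 2 = aeval (toFn f P.t₀) p ∧ 2 * g + 1 ≤ p.natDegree ∧ p.natDegree ≤ 2 * g + 2 ∧
      TwoAlg.Bas (rs f (inf_le_left : P.U₀ ⊓ P.U₁ ≤ P.U₀) (toFn f P.t₀))
        (rs f (inf_le_left : P.U₀ ⊓ P.U₁ ≤ P.U₀)).range (rs f (inf_le_left : P.U₀ ⊓ P.U₁ ≤ P.U₀) y) ∧
      TwoAlg.Bas (rs f (inf_le_right : P.U₀ ⊓ P.U₁ ≤ P.U₁) (toFn f P.t₁))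
        (rs f (inf_le_right : P.U₀ ⊓ P.U₁ ≤ P.U₁)).range
        (rs f (inf_le_right : P.U₀ ⊓ P.U₁ ≤ P.U₁) (toFn f P.t₁) ^ (g + 1) *
          rs f (inf_le_left : P.U₀ ⊓ P.U₁ ≤ P.U₀) y) := by
  obtain ⟨hU₁, hU₀₁, y, B₀, B₁⟩ := exists_normal f P h0 hr₀ hr₁ g hg
  have hl : (P.U₀ ⊓ P.U₁ : X.Opens) ≤ P.U₀ := inf_le_left
  have hrt : (P.U₀ ⊓ P.U₁ : X.Opens) ≤ P.U₁ := inf_le_right
  have hxu : rs f hl (toFn f P.t₀) * rs f hrt (toFn f P.t₁) = 1 := P.mul
  refine ⟨hU₁, hU₀₁, ?_⟩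
  obtain ⟨p, q, e, hp, hq⟩ := TwoAlg.exists_equation hxu B₀ B₁
  have hae : ∀ p : k[X], aeval (rs f hl (toFn f P.t₀)) p = rs f hl (aeval (toFn f P.t₀) p) := fun p => by
    rw [aeval_algHom_apply]
  obtain ⟨C₀, C₁, e'⟩ := TwoAlg.complete_square hxu h2 B₀ B₁ e hq
  have hy : rs f hl (aeval (toFn f P.t₀) (C (2⁻¹ : k) * q) + y) =
      aeval (rs f hl (toFn f P.t₀)) (C (2⁻¹ : k) * q) + rs f hl y := by
    rw [map_add, hae]
  have e'' : (aeval (toFn f P.t₀) (C (2⁻¹ : k) * q) + y) ^ 2 =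
      aeval (toFn f P.t₀) (p + C (4⁻¹ : k) * q ^ 2) := by
    apply rs_injective f hl
    rw [map_pow, hy, ← hae]
    exact e'
  have D₁ : TwoAlg.Bas (rs f hrt (toFn f P.t₁)) (rs f hrt).range
        (rs f hrt (toFn f P.t₁) ^ (g + 1) * rs f hl (aeval (toFn f P.t₀) (C (2⁻¹ : k) * q) + y)) := by
    rw [hy]; exact C₁
  have hlow := lower_bound f P hn (y := aeval (toFn f P.t₀) (C (2⁻¹ : k) * q) + y) D₁
    (p := p + C (4⁻¹ : k) * q ^ 2) (q := 0) (by rw [map_zero, zero_mul, add_zero]; exact e'')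
  refine ⟨aeval (toFn f P.t₀) (C (2⁻¹ : k) * q) + y, p + C (4⁻¹ : k) * q ^ 2, e'', ?_, ?_, ?_, D₁⟩
  · rw [natDegree_zero, mul_zero, max_eq_left (Nat.zero_le _)] at hlow
    exact hlow
  · refine (natDegree_add_le _ _).trans (max_le (by omega) ?_)
    refine (natDegree_C_mul_le _ _).trans ?_
    refine natDegree_pow_le.trans ?_
    omega
  · rw [hy]; exact C₀

end K663.P1Core
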