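import Groth.Agent.Lefpen.H716.CIGeom
import Groth.Agent.Lefpen.H705.PointCoord
import Groth.Agent.Unram.K147.AffPull
import Groth.Agent.Picfga.P1Def
import Mathlib.AlgebraicGeometry.Morphisms.FlatRank

/-!
# The chart description of a finite flat morphism to `P^1_k`

`ev j : k[X] →+* Γ(P^1_k, D_+(T_j))` is bijective; `p1Data f hf : P1Data sC` for `f : C ⟶ P^1_k` finite flat over
`k`; `finrank_eq`: the rank of `Γ(C, f⁻¹ D_+(T_j))` over `k[X]`.
-/

set_option autoImplicit false
set_option backward.isDefEq.respectTransparency false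
universe u

open CategoryTheory CategoryTheory.Limits AlgebraicGeometry Opposite TopologicalSpace Polynomial
open Groth.Agent.Fdesc.LocGen Groth.Agent Groth.Agent.Picfga Groth.Agent.Picfga.P1Def
open Groth.Agent.Lefpen.H705.HypIdeal Groth.Agent.Lefpen.H705.ChartPoly Groth.Agent.Lefpen.H705.PointCoord
open Groth.Agent.Lefpen.H716.CIGeom

namespace K663.P1OfHom

variable {k : Type u} [Field k]

/-- The coordinate on the chart `j`. -/
noncomputable abbrev cc (j : Fin (1 + 1)) : Γ(CohB1.ProjSpace 1 k, LefPen.chart 1 k j) := ratio j (j.succAbove 0)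

/-- Polynomials as functions on the chart. -/
noncomputable def ev (j : Fin (1 + 1)) : k[X] →+* Γ(CohB1.ProjSpace 1 k, LefPen.chart 1 k j) :=
  eval₂RingHom (strMap (CohB1.ProjSpace.toSpec 1 k) (LefPen.chart 1 k j)) (cc j)

theorem ev_eq (j : Fin (1 + 1)) : ev (k := k) j =
    (polyToChart j).comp (eval₂RingHom MvPolynomial.C (MvPolynomial.X 0) : k[X] →+* MvPolynomial (Fin 1) k) := by
  apply Polynomial.ringHom_ext
  · intro a
    simp only [ev, coe_eval₂RingHom, eval₂_C, RingHom.comp_apply]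
    exact (polyToChart_C j a).symm
  · simp only [ev, coe_eval₂RingHom, eval₂_X, RingHom.comp_apply]
    unfold cc ratio
    rw [dehom_eq, Groth.Agent.Sga5.ProjChart.dehom_X]

theorem bijective_poly : Function.Bijective
    (eval₂RingHom MvPolynomial.C (MvPolynomial.X 0) : k[X] →+* MvPolynomial (Fin 1) k) := by
  have h1 : Function.LeftInverse (MvPolynomial.eval₂Hom (Polynomial.C : k →+* k[X]) (fun _ : Fin 1 => Polynomial.X))
      (eval₂RingHom MvPolynomial.C (MvPolynomial.X 0) : k[X] →+* MvPolynomial (Fin 1) k) := by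
    intro p
    rw [← RingHom.comp_apply]
    have : (MvPolynomial.eval₂Hom (Polynomial.C : k →+* k[X]) (fun _ : Fin 1 => Polynomial.X)).comp
        (eval₂RingHom MvPolynomial.C (MvPolynomial.X 0) : k[X] →+* MvPolynomial (Fin 1) k) = RingHom.id _ := by
      apply Polynomial.ringHom_ext
      · intro a; simp
      · simp
    rw [this]; rfl
  have h2 : Function.RightInverse (MvPolynomial.eval₂Hom (Polynomial.C : k →+* k[X]) (fun _ : Fin 1 => Polynomial.X))
      (eval₂RingHom MvPolynomial.C (MvPolynomial.X 0) : k[X] →+* MvPolynomial (Fin 1) k) := by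
    intro p
    rw [← RingHom.comp_apply]
    have : (eval₂RingHom MvPolynomial.C (MvPolynomial.X 0) : k[X] →+* MvPolynomial (Fin 1) k).comp
        (MvPolynomial.eval₂Hom (Polynomial.C : k →+* k[X]) (fun _ : Fin 1 => Polynomial.X)) = RingHom.id _ := by
      apply MvPolynomial.ringHom_ext
      · intro a; simp
      · intro i
        fin_cases i
        simp
    rw [this]; rfl
  exact ⟨h1.injective, h2.surjective⟩

theorem ev_bijective (j : Fin (1 + 1)) : Function.Bijective (ev (k := k) j) := by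
  rw [ev_eq]
  exact (polyToChart_bijective j).comp bijective_poly

theorem basicOpen_cc (j : Fin (1 + 1)) : (CohB1.ProjSpace 1 k).basicOpen (cc (k := k) j) =
    LefPen.chart 1 k j ⊓ LefPen.chart 1 k (j.succAbove 0) := by
  ext x
  constructor
  · intro hx
    have hj : x ∈ LefPen.chart 1 k j := Scheme.basicOpen_le _ _ hx
    exact ⟨hj, (mem_basicOpen_dehom_iff _ j x hj).1 hx⟩
  · rintro ⟨hj, hx⟩
    exact (mem_basicOpen_dehom_iff _ j x hj).2 hx

theorem sup_chart : LefPen.chart 1 k 0 ⊔ LefPen.chart 1 k 1 = ⊤ := by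
  rw [eq_top_iff, ← iSup_chart]
  refine iSup_le fun j => ?_
  fin_cases j
  · exact le_sup_left
  · exact le_sup_right

variable {C : Scheme.{u}} {sC : C ⟶ Spec (CommRingCat.of k)} (f : C ⟶ CohB1.ProjSpace 1 k)
  (hf : f ≫ CohB1.ProjSpace.toSpec 1 k = sC)

/-- The coordinate pulled back to `C`. -/
noncomputable abbrev tt (j : Fin (1 + 1)) : Γ(C, f ⁻¹ᵁ (LefPen.chart 1 k j)) := (f.app (LefPen.chart 1 k j)).hom (cc j)

include hf in
theorem app_strMap (V : (CohB1.ProjSpace 1 k).Opens) (a : k) :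
    (f.app V).hom (strMap (CohB1.ProjSpace.toSpec 1 k) V a) = strMap sC (f ⁻¹ᵁ V) a := by
  subst hf
  unfold strMap
  rw [← CommRingCat.comp_apply]
  congr 2
  rw [Category.assoc]
  congr 1
  rw [Scheme.Hom.app_eq_appLE, Scheme.Hom.appLE_comp_appLE]

include hf in
theorem eval_eq (j : Fin (1 + 1)) : eval₂RingHom (strMap sC (f ⁻¹ᵁ (LefPen.chart 1 k j))) (tt f j) =
    (f.app (LefPen.chart 1 k j)).hom.comp (ev j) := by
  apply Polynomial.ringHom_ext
  · intro a
    simp only [ev, coe_eval₂RingHom, eval₂_C, RingHom.comp_apply]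
    exact (app_strMap f hf _ a).symm
  · simp only [ev, coe_eval₂RingHom, eval₂_X, RingHom.comp_apply]

include hf in
theorem finite_eval [IsFinite f] (j : Fin (1 + 1)) :
    (eval₂RingHom (strMap sC (f ⁻¹ᵁ (LefPen.chart 1 k j))) (tt f j)).Finite := by
  rw [eval_eq f hf]
  exact (IsFinite.finite_app f _ (isAffineOpen_chart j)).comp
    (RingHom.Finite.of_surjective _ (ev_bijective j).2)

theorem flat_app [IsAffineHom f] [Flat f] (j : Fin (1 + 1)) : (f.app (LefPen.chart 1 k j)).hom.Flat := by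
  rw [Scheme.Hom.app_eq_appLE]
  exact HasRingHomProperty.appLE @Flat f inferInstance ⟨_, isAffineOpen_chart j⟩
    ⟨_, (isAffineOpen_chart j).preimage f⟩ le_rfl

include hf in
theorem flat_eval [IsAffineHom f] [Flat f] (j : Fin (1 + 1)) :
    (eval₂RingHom (strMap sC (f ⁻¹ᵁ (LefPen.chart 1 k j))) (tt f j)).Flat := by
  rw [eval_eq f hf]
  exact RingHom.Flat.comp (RingHom.Flat.of_bijective (ev_bijective j)) (flat_app f j)

theorem inf_eq (i j : Fin (1 + 1)) (h : j = i.succAbove 0) :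
    f ⁻¹ᵁ (LefPen.chart 1 k i) ⊓ f ⁻¹ᵁ (LefPen.chart 1 k j) = C.basicOpen (tt f i) := by
  subst h
  rw [← Scheme.preimage_basicOpen, basicOpen_cc]
  rfl

/-- The two charts. -/
noncomputable def p1Data [IsFinite f] [Flat f] : P1Data sC where
  U₀ := f ⁻¹ᵁ (LefPen.chart 1 k 0)
  U₁ := f ⁻¹ᵁ (LefPen.chart 1 k 1)
  affine₀ := (isAffineOpen_chart 0).preimage f
  affine₁ := (isAffineOpen_chart 1).preimage f
  sup := by
    have := congrArg (fun V => f ⁻¹ᵁ V) (sup_chart (k := k))
    exact this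
  t₀ := tt f 0
  t₁ := tt f 1
  inf₀ := inf_eq f 0 1 rfl
  inf₁ := by
    rw [inf_comm]
    exact inf_eq f 1 0 rfl
  mul := by
    have h := ores_ratio_mul (k := k) (0 : Fin (1 + 1)) 1 (LefPen.chart 1 k 0 ⊓ LefPen.chart 1 k 1) inf_le_left inf_le_right
    have h2 := congrArg (f.app (LefPen.chart 1 k 0 ⊓ LefPen.chart 1 k 1)).hom h
    rw [map_mul, map_one] at h2
    refine Eq.trans ?_ h2
    congr 1
    · unfold ores
      rw [← CommRingCat.comp_apply, ← CommRingCat.comp_apply]
      exact congrArg (fun φ => φ.hom (cc 0)) (f.naturality (homOfLE (inf_le_left : LefPen.chart 1 k 0 ⊓ LefPen.chart 1 k 1 ≤ _)).op).symm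
    · unfold ores
      rw [← CommRingCat.comp_apply, ← CommRingCat.comp_apply]
      exact congrArg (fun φ => φ.hom (cc 1)) (f.naturality (homOfLE (inf_le_right : LefPen.chart 1 k 0 ⊓ LefPen.chart 1 k 1 ≤ _)).op).symm
  finite₀ := finite_eval f hf 0
  finite₁ := finite_eval f hf 1
  flat₀ := flat_eval f hf 0
  flat₁ := flat_eval f hf 1

include hf in
/-- The rank in one chart. -/
theorem finrank_eq [IsFinite f] [Flat f] {n : ℕ} (hrk : ∀ y : ↥(CohB1.ProjSpace 1 k), Scheme.Hom.finrank f y = n)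
    (j : Fin (1 + 1)) :
    letI := (eval₂RingHom (strMap sC (f ⁻¹ᵁ (LefPen.chart 1 k j))) (tt f j)).toAlgebra
    Module.finrank k[X] Γ(C, f ⁻¹ᵁ (LefPen.chart 1 k j)) = n := by
  letI := (eval₂RingHom (strMap sC (f ⁻¹ᵁ (LefPen.chart 1 k j))) (tt f j)).toAlgebra
  have h1 := K147.AffPull.isPullback_fromSpec f (isAffineOpen_chart (k := k) j)
  have hfin := IsFinite.finite_app f _ (isAffineOpen_chart (k := k) j)
  have hfl := flat_app f j
  have h2 : ∀ x, (f.app (LefPen.chart 1 k j)).hom.finrank x = n := by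
    intro x
    rw [← Scheme.Hom.finrank_SpecMap_eq_finrank hfin hfl]
    rw [Scheme.Hom.finrank_of_isPullback _ _ _ _ h1]
    exact hrk _
  have h3 : ∀ x : PrimeSpectrum Γ(CohB1.ProjSpace 1 k, LefPen.chart 1 k j),
      (eval₂RingHom (strMap sC (f ⁻¹ᵁ (LefPen.chart 1 k j))) (tt f j)).finrank
      (PrimeSpectrum.comap (ev j) x) = n := by
    intro x
    rw [eval_eq f hf, RingHom.finrank_comp_right_of_bijective (ev j) _ (ev_bijective j) hfin hfl _ x rfl, h2]
  have hfin' : Module.Finite k[X] Γ(C, f ⁻¹ᵁ (LefPen.chart 1 k j)) := finite_eval f hf j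
  have hfl' : Module.Flat k[X] Γ(C, f ⁻¹ᵁ (LefPen.chart 1 k j)) := flat_eval f hf j
  have hnt : Nontrivial Γ(CohB1.ProjSpace 1 k, LefPen.chart 1 k j) := (ev_bijective (k := k) j).1.nontrivial
  obtain ⟨x⟩ : Nonempty (PrimeSpectrum Γ(CohB1.ProjSpace 1 k, LefPen.chart 1 k j)) := inferInstance
  have h4 := h3 x
  have h5 : Module.Free k[X] Γ(C, f ⁻¹ᵁ (LefPen.chart 1 k j)) := inferInstance
  have h6 : Module.rankAtStalk (R := k[X]) Γ(C, f ⁻¹ᵁ (LefPen.chart 1 k j)) (PrimeSpectrum.comap (ev j) x) = n := h4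
  rw [Module.rankAtStalk_eq_finrank_of_free] at h6
  exact h6

end K663.P1OfHom
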