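import Groth.Agent.Curves.K321.HurwMain

/-!
# The fundamental identity for finite morphisms of normal curves

`sum_ram`: the sum over a fibre of the residue degrees times the ramification indices is the degree.
`ram_two`: the ramification indices of a morphism of degree two whose fibres are `{x, σ x}`.
-/

set_option autoImplicit false
universe u

open CategoryTheory CategoryTheory.Limits AlgebraicGeometry TopologicalSpace Opposite

namespace K663.RamSum

open Groth.Agent Groth.Agent.Divis.NormSheaf K321.HurwLoc

variable {X Y : Scheme.{u}} (f : X ⟶ Y) [IsIntegral X] [IsIntegral Y] [Surjective f]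

theorem ff_algebraMap (x : X) (a : Y.presheaf.stalk (f x)) :
    ff f (algebraMap (Y.presheaf.stalk (f x)) Y.functionField a) =
      algebraMap (X.presheaf.stalk x) X.functionField (f.stalkMap x a) := by
  have h1 := congr($(Scheme.Hom.stalkSpecializes_stalkMap f (genericPoint X) x (genericPoint_specializes x)).hom a)
  have h2 := TopCat.Presheaf.stalkSpecializes_comp_apply Y.presheaf
      (specializes_of_eq (map_genericPoint f)) (genericPoint_specializes (f x)) a
  refine Eq.trans ?_ h1
  exact congrArg (f.stalkMap (genericPoint X)) h2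

open IsLocalRing in
/-- The order at `x` of a uniformizer at `f x` is the ramification index. -/
theorem ordFrac_ff (x : X) (hS : IsDiscreteValuationRing (X.presheaf.stalk x))
    (hR : IsDiscreteValuationRing (Y.presheaf.stalk (f x))) {ϖ : Y.presheaf.stalk (f x)} (hϖ : Irreducible ϖ) :
    CycAlg.ordFrac (X.presheaf.stalk x) X.functionField
      (ff f (algebraMap (Y.presheaf.stalk (f x)) Y.functionField ϖ)) = (ram f x : ℤ) := by
  let := (f.stalkMap x).hom.toAlgebra
  have hloc : IsLocalHom (algebraMap (Y.presheaf.stalk (f x)) (X.presheaf.stalk x)) :=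
    inferInstanceAs (IsLocalHom (f.stalkMap x).hom)
  rw [ff_algebraMap]
  obtain ⟨t, ht⟩ := IsDiscreteValuationRing.exists_irreducible (X.presheaf.stalk x)
  have hinj : Function.Injective (algebraMap (Y.presheaf.stalk (f x)) (X.presheaf.stalk x)) := by
    intro a b hab
    apply IsFractionRing.injective (Y.presheaf.stalk (f x)) Y.functionField
    apply (ff f).injective
    rw [ff_algebraMap, ff_algebraMap]
    exact congrArg _ hab
  have h0 : algebraMap (Y.presheaf.stalk (f x)) (X.presheaf.stalk x) ϖ ≠ 0 :=
    fun h => hϖ.ne_zero (hinj (h.trans (map_zero _).symm))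
  obtain ⟨e, u, hu⟩ := IsDiscreteValuationRing.eq_unit_mul_pow_irreducible h0 ht
  have he : e ≠ 0 := by
    rintro rfl
    rw [pow_zero, mul_one] at hu
    have h1 : IsUnit (algebraMap (Y.presheaf.stalk (f x)) (X.presheaf.stalk x) ϖ) := hu ▸ u.isUnit
    exact hϖ.not_isUnit ((isUnit_map_iff _ _).1 h1)
  have : (maximalIdeal (X.presheaf.stalk x)).LiesOver (maximalIdeal (Y.presheaf.stalk (f x))) := by
    constructor
    ext z
    rw [Ideal.mem_comap, mem_maximalIdeal, mem_maximalIdeal, mem_nonunits_iff, mem_nonunits_iff, isUnit_map_iff]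
  have h2 : ram f x = e := by
    refine Lefpen.H534.RamAlg.ramificationIdx_eq (maximalIdeal (Y.presheaf.stalk (f x))) e ?_
    rw [hϖ.maximalIdeal_eq, Ideal.map_span, Set.image_singleton, hu, ht.maximalIdeal_eq, Ideal.span_singleton_pow,
      mul_comm, Ideal.span_singleton_mul_right_unit u.isUnit]
  have h3 : f.stalkMap x ϖ = t ^ e * u := (show f.stalkMap x ϖ = u * t ^ e from hu).trans (mul_comm _ _)
  rw [h3, K321.DiscLocal.ordFrac_pow_mul ht e u.isUnit, h2]

variable [IsFinite f] [IsLocallyNoetherian Y]

/-- **The fundamental identity.** -/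
theorem sum_ram (y : Y) (hR : IsDiscreteValuationRing (Y.presheaf.stalk y))
    (hS : ∀ x : X, f x = y → IsDiscreteValuationRing (X.presheaf.stalk x)) :
    letI := alg f
    ∑ᶠ x : {x : X // f x = y}, (f.residueDegree x.1 : ℤ) * (ram f x.1 : ℤ) =
      (Module.finrank Y.functionField X.functionField : ℤ) := by
  let := alg f
  have hfd := finite_functionField f
  obtain ⟨ϖ, hϖ⟩ := IsDiscreteValuationRing.exists_irreducible (Y.presheaf.stalk y)
  have hne : algebraMap (Y.presheaf.stalk y) Y.functionField ϖ ≠ 0 := fun h =>
    hϖ.ne_zero (IsFractionRing.injective (Y.presheaf.stalk y) Y.functionField (h.trans (map_zero _).symm))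
  have h1 := norm_formula f y (Ring.krullDimLE_iff.1 inferInstance) (ff f (algebraMap (Y.presheaf.stalk y) Y.functionField ϖ)) ((map_ne_zero _).2 hne)
  have h2 : Algebra.norm Y.functionField (ff f (algebraMap (Y.presheaf.stalk y) Y.functionField ϖ)) =
      algebraMap (Y.presheaf.stalk y) Y.functionField (ϖ ^ Module.finrank Y.functionField X.functionField * 1) := by
    rw [mul_one, map_pow]
    exact Algebra.norm_algebraMap _
  rw [h2, K321.DiscLocal.ordFrac_pow_mul hϖ _ isUnit_one] at h1
  rw [h1]
  refine finsum_congr fun x => ?_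
  congr 1
  obtain ⟨x, rfl⟩ := x
  exact (ordFrac_ff f x (hS x rfl) hR hϖ).symm

end K663.RamSum
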