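import Mathlib.Algebra.Polynomial.Reverse
import Mathlib.RingTheory.Polynomial.Basic
import Mathlib.Algebra.MvPolynomial.Equiv
import Mathlib.Algebra.GCDMonoid.Basic
import Mathlib.LinearAlgebra.Dimension.Constructions
import Mathlib.Algebra.Polynomial.Div
import Mathlib.Algebra.Polynomial.RingDivision
import Mathlib.Tactic.LinearCombination
import Mathlib.Tactic.FieldSimp
import Mathlib.RingTheory.Ideal.Quotient.Operations
import Mathlib.LinearAlgebra.Finsupp.LinearCombination
import Mathlib.LinearAlgebra.Quotient.Basic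

/-!
# Algebra of double covers of the projective line: the normal form

A ring `R` over a field `k` with `x * u = 1` and two subalgebras `A₀` (free over `k[x]` on `1, y`) and `A₁`
(free over `k[u]` on `1, y₁`), which agree after inverting `x`, `u`, and with `A₀ ∩ A₁ = k`: one can choose
`y₁ = u ^ n * y` with `n ≥ 1`, `y ^ 2 + q(x) y = p(x)` with `deg p ≤ 2 n`, `deg q ≤ n`, and
`R / (A₀ + A₁)` has dimension `n - 1`.
-/

set_option autoImplicit false

open Polynomial

namespace K663.TwoAlg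

variable {k R : Type*} [Field k] [CommRing R] [Algebra k R]

/-- `1, y` is a basis of `A` over `k[x]`. -/
structure Bas (x : R) (A : Subalgebra k R) (y : R) : Prop where
  mem_iff : ∀ a, a ∈ A ↔ ∃ p q : k[X], a = aeval x p + aeval x q * y
  uniq : ∀ p q : k[X], aeval x p + aeval x q * y = 0 → p = 0 ∧ q = 0

namespace Bas

variable {x u y : R} {A : Subalgebra k R}

theorem mem_y (h : Bas x A y) : y ∈ A := (h.mem_iff y).2 ⟨0, 1, by simp⟩

theorem mem_x (h : Bas x A y) : x ∈ A := (h.mem_iff x).2 ⟨X, 0, by simp⟩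

theorem uniq' (h : Bas x A y) {p q p' q' : k[X]}
    (e : aeval x p + aeval x q * y = aeval x p' + aeval x q' * y) : p = p' ∧ q = q' := by
  have := h.uniq (p - p') (q - q') (by
    rw [map_sub, map_sub]; linear_combination e)
  exact ⟨sub_eq_zero.1 this.1, sub_eq_zero.1 this.2⟩

theorem shift (h : Bas x A y) {c : k} (hc : c ≠ 0) (a : k[X]) :
    Bas x A (aeval x a + algebraMap k R c * y) := by
  have hcR : algebraMap k R c⁻¹ * algebraMap k R c = 1 := by
    rw [← map_mul, inv_mul_cancel₀ hc, map_one]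
  refine ⟨fun b => ⟨fun hb => ?_, ?_⟩, fun p q e => ?_⟩
  · obtain ⟨p, q, rfl⟩ := (h.mem_iff b).1 hb
    refine ⟨p - q * C c⁻¹ * a, q * C c⁻¹, ?_⟩
    simp only [map_sub, map_mul, aeval_C]
    linear_combination (-(aeval x q) * y) * hcR
  · rintro ⟨p, q, rfl⟩
    refine (h.mem_iff _).2 ⟨p + q * a, q * C c, ?_⟩
    simp only [map_add, map_mul, aeval_C]
    ring
  · have h2 := h.uniq (p + q * a) (q * C c) (by
      simp only [map_add, map_mul, aeval_C]
      linear_combination e)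
    have h3 : q = 0 := by
      rcases mul_eq_zero.1 h2.2 with h | h
      · exact h
      · exact absurd (C_eq_zero.1 h) hc
    refine ⟨?_, h3⟩
    have := h2.1
    rwa [h3, zero_mul, add_zero] at this

end Bas

/-- `u ^ N * p(x)` is a polynomial in `u`. -/
theorem pow_mul_aeval {x u : R} (hxu : x * u = 1) {N : ℕ} {p : k[X]} (hp : p.natDegree ≤ N) :
    u ^ N * aeval x p = aeval u (reflect N p) := by
  let _ : Invertible x := ⟨u, by rw [mul_comm, hxu], hxu⟩
  have h := eval₂_reflect_mul_pow (algebraMap k R) x N p hp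
  have h2 : (⅟x : R) = u := rfl
  rw [h2] at h
  rw [aeval_def, aeval_def, ← h]
  have h3 : u ^ N * x ^ N = 1 := by rw [← mul_pow, mul_comm u x, hxu, one_pow]
  linear_combination (eval₂ (algebraMap k R) u (reflect N p)) * h3

theorem pow_mul_pow {x u : R} (hxu : x * u = 1) (n : ℕ) : x ^ n * u ^ n = 1 := by
  rw [← mul_pow, hxu, one_pow]

variable {x u : R} {A₀ A₁ : Subalgebra k R}

theorem cancel_pow {x u : R} (hxu : x * u = 1) (n : ℕ) {a b : R} (h : x ^ n * a = x ^ n * b) : a = b := by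
  have := pow_mul_pow hxu n
  linear_combination (u ^ n) * h + (b - a) * this

/-- The transition coefficient is a power of `X`. -/
theorem exists_pow (hxu : x * u = 1) {y₀ y₁ : R} (h₀ : Bas x A₀ y₀) (h₁ : Bas u A₁ y₁)
    (h10 : ∀ a ∈ A₁, ∃ n : ℕ, x ^ n * a ∈ A₀) (h01 : ∀ a ∈ A₀, ∃ n : ℕ, u ^ n * a ∈ A₁) :
    ∃ (N m : ℕ) (c : k) (a : k[X]), c ≠ 0 ∧ x ^ N * y₁ = aeval x a + algebraMap k R c * x ^ m * y₀ := by
  obtain ⟨N, hN⟩ := h10 y₁ h₁.mem_y
  obtain ⟨α, β, e1⟩ := (h₀.mem_iff _).1 hN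
  obtain ⟨N', hN'⟩ := h01 y₀ h₀.mem_y
  obtain ⟨α', β', e2⟩ := (h₁.mem_iff _).1 hN'
  have hux : u * x = 1 := by rw [mul_comm, hxu]
  -- multiply by a power of `x`
  set M := max α'.natDegree β'.natDegree with hM
  have ea := pow_mul_aeval hux (le_max_left α'.natDegree β'.natDegree)
  have eb := pow_mul_aeval hux (le_max_right α'.natDegree β'.natDegree)
  rw [← hM] at ea eb
  have key : aeval x (0 : k[X]) + aeval x (X ^ (N + M) : k[X]) * y₀ =
      aeval x (X ^ N' * (X ^ N * reflect M α' + reflect M β' * α)) +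
        aeval x (X ^ N' * (reflect M β' * β)) * y₀ := by
    simp only [map_add, map_mul, aeval_X_pow, map_zero, zero_add]
    rw [← ea, ← eb]
    have e3 := pow_mul_pow hxu N'
    linear_combination (-(x ^ N * x ^ M) * y₀) * e3 + (x ^ N' * x ^ N * x ^ M) * e2 +
      (x ^ N' * x ^ M * (aeval u) β') * e1
  have h3 := (h₀.uniq' key).2
  have hdvd : β ∣ (X : k[X]) ^ (N + M) := ⟨X ^ N' * reflect M β', by rw [h3]; ring⟩
  obtain ⟨m, -, hm⟩ := (dvd_prime_pow (p := (X : k[X])) Polynomial.prime_X (N + M)).1 hdvd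
  obtain ⟨w, hw⟩ : Associated ((X : k[X]) ^ m) β := hm.symm
  obtain ⟨c, hc, hc'⟩ := Polynomial.isUnit_iff.1 w.isUnit
  refine ⟨N, m, c, α, hc.ne_zero, ?_⟩
  rw [e1, ← hw, ← hc']
  simp only [map_mul, aeval_X_pow, aeval_C]
  ring

/-- **The normal form.** -/
theorem exists_normal (hxu : x * u = 1) {y₀ y₁ : R} (h₀ : Bas x A₀ y₀) (h₁ : Bas u A₁ y₁)
    (h10 : ∀ a ∈ A₁, ∃ n : ℕ, x ^ n * a ∈ A₀) (h01 : ∀ a ∈ A₀, ∃ n : ℕ, u ^ n * a ∈ A₁)
    (hk : ∀ a, a ∈ A₀ → a ∈ A₁ → ∃ c : k, a = algebraMap k R c) :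
    ∃ (n : ℕ) (y : R), 1 ≤ n ∧ Bas x A₀ y ∧ Bas u A₁ (u ^ n * y) := by
  obtain ⟨N, m, c, α, hc, e⟩ := exists_pow hxu h₀ h₁ h10 h01
  have hux : u * x = 1 := by rw [mul_comm, hxu]
  -- split off low degree part
  have split : ∀ m : ℕ, ∃ α₀ α₁ : k[X], α = α₀ + X ^ m * α₁ ∧ (α₀.natDegree ≤ m) := by
    intro m
    refine ⟨α %ₘ (X ^ m), α /ₘ (X ^ m), (modByMonic_add_div α _).symm, ?_⟩
    refine (natDegree_modByMonic_le α (monic_X_pow m)).trans ?_
    rw [natDegree_X_pow]
  by_cases hmN : N ≤ m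
  · exfalso
    obtain ⟨α₀, α₁, e1, e2⟩ := split N
    have e4 := pow_mul_aeval hxu e2
    -- `y₁ - α₀'(u) = α₁(x) + c x^(m-N) y₀`
    have h3 : y₁ - aeval u (reflect N α₀) = aeval x α₁ + aeval x (C c * X ^ (m - N)) * y₀ := by
      apply cancel_pow hxu N
      rw [mul_sub, e, ← e4, e1]
      simp only [map_add, map_mul, aeval_X_pow, aeval_C]
      have e5 := pow_mul_pow hxu N
      have e6 : x ^ m = x ^ N * x ^ (m - N) := by rw [← pow_add]; congr 1; omega
      rw [e6]
      linear_combination (-(aeval x) α₀) * e5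
    obtain ⟨c', hc'⟩ := hk _ (show y₁ - aeval u (reflect N α₀) ∈ A₀ from
        (h₀.mem_iff _).2 ⟨_, _, h3⟩) ((h₁.mem_iff _).2 ⟨- reflect N α₀, 1, by
          rw [map_neg, map_one]; ring⟩)
    have h4 := (h₀.uniq' (p := α₁) (q := C c * X ^ (m - N)) (p' := C c') (q' := 0) (by
      rw [← h3, hc', aeval_C, map_zero, zero_mul, add_zero])).2
    rcases mul_eq_zero.1 h4 with h | h
    · exact hc (C_eq_zero.1 h)
    · exact pow_ne_zero (m - N) X_ne_zero h
  · push Not at hmN
    obtain ⟨α₀, α₁, e1, e2⟩ := split m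
    have e4 := pow_mul_aeval hxu (e2.trans hmN.le)
    refine ⟨N - m, aeval x α₁ + algebraMap k R c * y₀, by omega, h₀.shift hc α₁, ?_⟩
    have h3 : u ^ (N - m) * (aeval x α₁ + algebraMap k R c * y₀) =
        aeval u (- reflect N α₀) + algebraMap k R 1 * y₁ := by
      rw [map_one, one_mul, map_neg]
      apply cancel_pow hxu N
      have e9 := congrArg (aeval x) e1
      rw [map_add, map_mul, aeval_X_pow] at e9
      have e5 := pow_mul_pow hxu N
      have e6 := pow_mul_pow hxu (N - m)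
      have e7 : x ^ N = x ^ m * x ^ (N - m) := by rw [← pow_add]; congr 1; omega
      have e8 : x ^ N * (u ^ (N - m) * ((aeval x) α₁ + (algebraMap k R) c * y₀)) =
        x ^ m * ((aeval x) α₁ + (algebraMap k R) c * y₀) := by
        rw [e7]; linear_combination (x ^ m * ((aeval x) α₁ + (algebraMap k R) c * y₀)) * e6
      rw [e8]
      linear_combination (aeval x α₀) * e5 - e - x ^ N * e4 - e9
    rw [h3]
    exact h₁.shift one_ne_zero _

/-- **The equation.** -/
theorem exists_equation (hxu : x * u = 1) {y : R} {n : ℕ} (h₀ : Bas x A₀ y) (h₁ : Bas u A₁ (u ^ n * y)) :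
    ∃ p q : k[X], y ^ 2 + aeval x q * y = aeval x p ∧ p.natDegree ≤ 2 * n ∧ q.natDegree ≤ n := by
  obtain ⟨p, q, e⟩ := (h₀.mem_iff _).1 (A₀.mul_mem h₀.mem_y h₀.mem_y)
  obtain ⟨r, s, e'⟩ := (h₁.mem_iff _).1 (A₁.mul_mem h₁.mem_y h₁.mem_y)
  have hux : u * x = 1 := by rw [mul_comm, hxu]
  set M := max r.natDegree s.natDegree with hM
  have ea := pow_mul_aeval hux (le_max_left r.natDegree s.natDegree)
  have eb := pow_mul_aeval hux (le_max_right r.natDegree s.natDegree)
  rw [← hM] at ea eb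
  have key : aeval x (X ^ M * p) + aeval x (X ^ M * q) * y =
      aeval x (X ^ (2 * n) * reflect M r) + aeval x (X ^ n * reflect M s) * y := by
    simp only [map_mul, aeval_X_pow]
    rw [← ea, ← eb]
    have e3 := pow_mul_pow hxu n
    have e5 : x ^ (2 * n) = x ^ n * x ^ n := by rw [← pow_add]; congr 1; omega
    rw [e5]
    linear_combination (-(x ^ M)) * e + (x ^ n * x ^ n * x ^ M) * e' -
      (x ^ M * y * y * (x ^ n * u ^ n + 1) - x ^ n * x ^ M * (aeval u) s * y) * e3
  obtain ⟨k1, k2⟩ := h₀.uniq' key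
  refine ⟨p, -q, by rw [pow_two, e, map_neg]; ring, ?_, ?_⟩
  · by_cases hp : p = 0
    · rw [hp]; simp
    have h5 := congrArg natDegree k1
    rw [natDegree_mul (pow_ne_zero _ X_ne_zero) hp, natDegree_X_pow] at h5
    have h6 : (X ^ (2 * n) * reflect M r).natDegree ≤ 2 * n + M := by
      refine natDegree_mul_le.trans ?_
      rw [natDegree_X_pow]
      have : (reflect M r).natDegree ≤ M := by
        refine (natDegree_reflect_le).trans ?_
        simp [hM]
      omega
    omega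
  · rw [natDegree_neg]
    by_cases hq : q = 0
    · rw [hq]; simp
    have h5 := congrArg natDegree k2
    rw [natDegree_mul (pow_ne_zero _ X_ne_zero) hq, natDegree_X_pow] at h5
    have h6 : (X ^ n * reflect M s).natDegree ≤ n + M := by
      refine natDegree_mul_le.trans ?_
      rw [natDegree_X_pow]
      have : (reflect M s).natDegree ≤ M := by
        refine (natDegree_reflect_le).trans ?_
        simp [hM]
      omega
    omega

/-- Completing the square. -/
theorem complete_square (hxu : x * u = 1) (h2 : (2 : k) ≠ 0) {y : R} {n : ℕ} (h₀ : Bas x A₀ y)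
    (h₁ : Bas u A₁ (u ^ n * y)) {p q : k[X]} (e : y ^ 2 + aeval x q * y = aeval x p) (hq : q.natDegree ≤ n) :
    Bas x A₀ (aeval x (C (2⁻¹ : k) * q) + y) ∧ Bas u A₁ (u ^ n * (aeval x (C (2⁻¹ : k) * q) + y)) ∧
      (aeval x (C (2⁻¹ : k) * q) + y) ^ 2 = aeval x (p + C (4⁻¹ : k) * q ^ 2) := by
  refine ⟨?_, ?_, ?_⟩
  · have := h₀.shift one_ne_zero (C (2⁻¹ : k) * q)
    rwa [map_one, one_mul] at this
  · have h3 := h₁.shift one_ne_zero (reflect n (C (2⁻¹ : k) * q))
    rw [map_one, one_mul, ← pow_mul_aeval hxu ((natDegree_C_mul_le _ _).trans hq), ← mul_add] at h3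
    exact h3
  · have h4 : (4 : k) ≠ 0 := by
      have : (4 : k) = 2 * 2 := by norm_num
      rw [this]; exact mul_ne_zero h2 h2
    have e2 : algebraMap k R 2⁻¹ + algebraMap k R 2⁻¹ = 1 := by
      rw [← map_add, ← map_one (algebraMap k R)]
      congr 1
      field_simp
      norm_num
    have e4 : algebraMap k R 2⁻¹ * algebraMap k R 2⁻¹ = algebraMap k R 4⁻¹ := by
      rw [← map_mul]
      congr 1
      rw [← mul_inv]
      norm_num
    simp only [map_add, map_mul, map_pow, aeval_C]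
    linear_combination e + (aeval x q ^ 2) * e4 + (aeval x q * y) * e2

/-- **The lower bound**: if `A₁` is integrally closed. -/
theorem lower_bound (hxu : x * u = 1) {y : R} {n : ℕ} (hn : 1 ≤ n) (h₁ : Bas u A₁ (u ^ n * y))
    (hic : ∀ z : R, (∃ a ∈ A₁, ∃ b ∈ A₁, z ^ 2 + b * z = a) → z ∈ A₁) {p q : k[X]}
    (e : y ^ 2 + aeval x q * y = aeval x p) : 2 * n - 1 ≤ max p.natDegree (2 * q.natDegree) := by
  by_contra hlt
  push Not at hlt
  have hp : p.natDegree ≤ 2 * (n - 1) := by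
    have := lt_of_le_of_lt (le_max_left _ _) hlt; omega
  have hq : q.natDegree ≤ n - 1 := by
    have := lt_of_le_of_lt (le_max_right _ _) hlt; omega
  have ep := pow_mul_aeval hxu hp
  have eq := pow_mul_aeval hxu hq
  have hmem : ∀ r : k[X], aeval u r ∈ A₁ := fun r => (h₁.mem_iff _).2 ⟨r, 0, by simp⟩
  have hz := hic (u ^ (n - 1) * y) ⟨_, hmem (reflect (2 * (n - 1)) p), _, hmem (reflect (n - 1) q), by
    rw [← ep, ← eq, pow_mul, ← pow_mul, mul_comm 2 (n - 1), pow_mul]
    linear_combination (u ^ (n - 1)) ^ 2 * e⟩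
  obtain ⟨r, s, h3⟩ := (h₁.mem_iff _).1 hz
  have h4 : aeval u (0 : k[X]) + aeval u (1 : k[X]) * (u ^ n * y) =
      aeval u (X * r) + aeval u (X * s) * (u ^ n * y) := by
    simp only [map_mul, aeval_X, map_zero, zero_add, map_one, one_mul]
    have e7 : u ^ n = u * u ^ (n - 1) := by rw [← pow_succ']; congr 1; omega
    rw [e7] at h3 ⊢
    linear_combination u * h3
  have h5 := (h₁.uniq' h4).2
  exact not_isUnit_X (IsUnit.of_mul_eq_one _ h5.symm)

/-- The map whose bijectivity computes `R / (A₀ + A₁)`. -/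
noncomputable def phi (u y : R) (m : ℕ) (S : Submodule k R) : (Fin m → k) →ₗ[k] R ⧸ S :=
  S.mkQ.comp (Fintype.linearCombination k (fun i : Fin m => u ^ ((i : ℕ) + 1) * y))

theorem phi_apply (u y : R) (m : ℕ) (S : Submodule k R) (c : Fin m → k) :
    phi u y m S c = S.mkQ (∑ i : Fin m, c i • (u ^ ((i : ℕ) + 1) * y)) := rfl

theorem aeval_u_mem {y₁ : R} (h₁ : Bas u A₁ y₁) (r : k[X]) : aeval u r ∈ A₁ :=
  (h₁.mem_iff _).2 ⟨r, 0, by simp⟩

theorem phi_surjective (hxu : x * u = 1) {y : R} {n : ℕ} (h₀ : Bas x A₀ y)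
    (h₁ : Bas u A₁ (u ^ n * y)) (htop : ∀ r : R, ∃ N : ℕ, x ^ N * r ∈ A₀) {S : Submodule k R}
    (hS₀ : ∀ a ∈ A₀, a ∈ S) (hS₁ : ∀ a ∈ A₁, a ∈ S) :
    Function.Surjective (phi u y (n - 1) S) := by
  set T : Submodule k R := (LinearMap.range (phi u y (n - 1) S)).comap S.mkQ with hT
  have hST : S ≤ T := by
    intro a ha
    change S.mkQ a ∈ LinearMap.range (phi u y (n - 1) S)
    rw [show S.mkQ a = 0 from (Submodule.Quotient.mk_eq_zero S).2 ha]
    exact zero_mem _
  have hmono : ∀ (N j : ℕ), u ^ N * (x ^ j * y) ∈ T := by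
    intro N j
    rcases le_or_gt N j with h | h
    · refine hST (hS₀ _ ?_)
      have e : u ^ N * (x ^ j * y) = x ^ (j - N) * y := by
        have e1 : x ^ j = x ^ N * x ^ (j - N) := by rw [← pow_add]; congr 1; omega
        rw [e1]
        linear_combination (x ^ (j - N) * y) * pow_mul_pow hxu N
      rw [e]
      exact A₀.mul_mem (A₀.pow_mem h₀.mem_x _) h₀.mem_y
    · have e : u ^ N * (x ^ j * y) = u ^ (N - j) * y := by
        have e1 : u ^ N = u ^ j * u ^ (N - j) := by rw [← pow_add]; congr 1; omega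
        rw [e1]
        linear_combination (u ^ (N - j) * y) * pow_mul_pow hxu j
      rw [e]
      rcases le_or_gt n (N - j) with h2 | h2
      · refine hST (hS₁ _ ?_)
        have e1 : u ^ (N - j) * y = u ^ (N - j - n) * (u ^ n * y) := by
          rw [← mul_assoc, ← pow_add]; congr 2; omega
        rw [e1]
        exact A₁.mul_mem (A₁.pow_mem h₁.mem_x _) h₁.mem_y
      · refine ⟨Pi.single (⟨N - j - 1, by omega⟩ : Fin (n - 1)) 1, ?_⟩
        rw [phi, LinearMap.comp_apply, Fintype.linearCombination_apply_single, one_smul]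
        congr 3
        change N - j - 1 + 1 = _
        omega
  have hpol : ∀ (N : ℕ) (q : k[X]), u ^ N * (aeval x q * y) ∈ T := by
    intro N q
    induction q using Polynomial.induction_on' with
    | add p q hp hq =>
      rw [map_add, add_mul, mul_add]
      exact add_mem hp hq
    | monomial j a =>
      have e : u ^ N * (aeval x (monomial j a) * y) = a • (u ^ N * (x ^ j * y)) := by
        rw [aeval_monomial, Algebra.smul_def]; ring
      rw [e]
      exact T.smul_mem _ (hmono N j)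
  have hcoef : ∀ (N : ℕ) (p : k[X]), u ^ N * aeval x p ∈ T := by
    intro N p
    obtain ⟨p₀, p₁, e1, e2⟩ : ∃ p₀ p₁ : k[X], p = p₀ + X ^ N * p₁ ∧ (p₀.natDegree ≤ N) := by
      refine ⟨p %ₘ (X ^ N), p /ₘ (X ^ N), (modByMonic_add_div p _).symm, ?_⟩
      refine (natDegree_modByMonic_le p (monic_X_pow N)).trans ?_
      rw [natDegree_X_pow]
    have e3 := pow_mul_aeval hxu e2
    have e4 : u ^ N * aeval x p = aeval u (reflect N p₀) + aeval x p₁ := by
      rw [← e3, e1]
      simp only [map_add, map_mul, aeval_X_pow]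
      linear_combination (aeval x p₁) * pow_mul_pow hxu N
    rw [e4]
    exact add_mem (hST (hS₁ _ (aeval_u_mem h₁ _))) (hST (hS₀ _ ((h₀.mem_iff _).2 ⟨p₁, 0, by simp⟩)))
  intro r
  obtain ⟨r, rfl⟩ := S.mkQ_surjective r
  obtain ⟨N, hN⟩ := htop r
  obtain ⟨p, q, e⟩ := (h₀.mem_iff _).1 hN
  have e2 : r = u ^ N * aeval x p + u ^ N * (aeval x q * y) := by
    linear_combination (u ^ N) * e - r * pow_mul_pow hxu N
  have h3 : r ∈ T := by
    rw [e2]
    exact add_mem (hcoef N p) (hpol N q)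
  exact h3

theorem phi_injective (hxu : x * u = 1) {y : R} {n : ℕ} (hn : 1 ≤ n) (h₀ : Bas x A₀ y)
    (h₁ : Bas u A₁ (u ^ n * y)) {S : Submodule k R}
    (hS : ∀ a ∈ S, ∃ b ∈ A₀, ∃ c ∈ A₁, a = b + c) :
    Function.Injective (phi u y (n - 1) S) := by
  rw [← LinearMap.ker_eq_bot, Submodule.eq_bot_iff]
  intro c hc
  rw [LinearMap.mem_ker, phi_apply, Submodule.mkQ_apply, Submodule.Quotient.mk_eq_zero] at hc
  obtain ⟨b, hb, d, hd, e⟩ := hS _ hc
  obtain ⟨p, q, rfl⟩ := (h₀.mem_iff _).1 hb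
  obtain ⟨r, s, rfl⟩ := (h₁.mem_iff _).1 hd
  have hux : u * x = 1 := by rw [mul_comm, hxu]
  set M := n + r.natDegree + s.natDegree with hM
  have er := pow_mul_aeval hux (show r.natDegree ≤ M by omega)
  have es := pow_mul_aeval hux (show s.natDegree ≤ M - n by omega)
  have e1 : x ^ M = x ^ n * x ^ (M - n) := by rw [← pow_add]; congr 1; omega
  have key : aeval x (0 : k[X]) + aeval x (∑ i : Fin (n - 1), C (c i) * X ^ (M - 1 - (i : ℕ))) * y =
      aeval x (X ^ M * p + reflect M r) + aeval x (X ^ M * q + reflect (M - n) s) * y := by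
    have e2 : aeval x (∑ i : Fin (n - 1), C (c i) * X ^ (M - 1 - (i : ℕ)) : k[X]) * y =
        x ^ M * (∑ i : Fin (n - 1), c i • (u ^ ((i : ℕ) + 1) * y)) := by
      rw [map_sum, Finset.sum_mul, Finset.mul_sum]
      refine Finset.sum_congr rfl fun i _ => ?_
      have hi := i.2
      have e3 : x ^ M = x ^ ((i : ℕ) + 1) * x ^ (M - 1 - (i : ℕ)) := by
        rw [← pow_add]; congr 1; omega
      rw [map_mul, aeval_C, aeval_X_pow, Algebra.smul_def, e3]
      linear_combination (-(algebraMap k R (c i)) * x ^ (M - 1 - (i : ℕ)) * y) *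
        pow_mul_pow hxu ((i : ℕ) + 1)
    rw [e2, e, map_zero, zero_add]
    simp only [map_add, map_mul, aeval_X_pow]
    rw [← er, ← es, e1]
    linear_combination (x ^ (M - n) * aeval u s * y) * pow_mul_pow hxu n
  have h3 := (h₀.uniq' key).2
  funext i
  have hi := i.2
  have h4 := congrArg (fun P : k[X] => P.coeff (M - 1 - (i : ℕ))) h3
  simp only [finsetSum_coeff, coeff_C_mul, coeff_X_pow, coeff_add, coeff_X_pow_mul'] at h4
  rw [if_neg (by omega), zero_add, coeff_reflect, revAt, Finset.sum_eq_single i] at h4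
  · rw [if_pos rfl, mul_one] at h4
    rw [h4, Pi.zero_apply]
    apply coeff_eq_zero_of_natDegree_lt
    change s.natDegree < if _ ≤ M - n then _ else _
    rw [if_neg (by omega)]
    omega
  · intro j _ hj
    have hj' := j.2
    rw [if_neg, mul_zero]
    intro h5
    exact hj (Fin.ext (by omega))
  · intro h; exact absurd (Finset.mem_univ i) h

/-- **The genus.** -/
theorem finrank_quotient (hxu : x * u = 1) {y : R} {n : ℕ} (hn : 1 ≤ n) (h₀ : Bas x A₀ y)
    (h₁ : Bas u A₁ (u ^ n * y)) (htop : ∀ r : R, ∃ N : ℕ, x ^ N * r ∈ A₀) {S : Submodule k R}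
    (hS : ∀ a, a ∈ S ↔ ∃ b ∈ A₀, ∃ c ∈ A₁, a = b + c) :
    Module.finrank k (R ⧸ S) = n - 1 := by
  have hS₀ : ∀ a ∈ A₀, a ∈ S := fun a ha => (hS a).2 ⟨a, ha, 0, A₁.zero_mem, (add_zero a).symm⟩
  have hS₁ : ∀ a ∈ A₁, a ∈ S := fun a ha => (hS a).2 ⟨0, A₀.zero_mem, a, ha, (zero_add a).symm⟩
  have e := LinearEquiv.ofBijective (phi u y (n - 1) S)
    ⟨phi_injective hxu hn h₀ h₁ (fun a ha => (hS a).1 ha), phi_surjective hxu h₀ h₁ htop hS₀ hS₁⟩
  rw [← e.finrank_eq, Module.finrank_fin_fun]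

/-- The equation of the plane curve. -/
noncomputable def eqn (p q : k[X]) : MvPolynomial (Fin 2) k :=
  MvPolynomial.X 1 ^ 2 + Polynomial.aeval (MvPolynomial.X 0) q * MvPolynomial.X 1 -
    Polynomial.aeval (MvPolynomial.X 0) p

theorem exists_normalForm (p q : k[X]) (G : MvPolynomial (Fin 2) k) : ∃ (r s : k[X]) (H : MvPolynomial (Fin 2) k),
    G = Polynomial.aeval (MvPolynomial.X 0) r + Polynomial.aeval (MvPolynomial.X 0) s * MvPolynomial.X 1 +
      H * eqn p q := by
  induction G using MvPolynomial.induction_on with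
  | C a => exact ⟨C a, 0, 0, by simp [MvPolynomial.algebraMap_eq]⟩
  | add G G' h h' =>
    obtain ⟨r, s, H, h⟩ := h
    obtain ⟨r', s', H', h'⟩ := h'
    refine ⟨r + r', s + s', H + H', ?_⟩
    rw [h, h', map_add, map_add]; ring
  | mul_X G i h =>
    obtain ⟨r, s, H, h⟩ := h
    match i with
    | 0 =>
      refine ⟨X * r, X * s, H * MvPolynomial.X 0, ?_⟩
      simp only [map_mul, aeval_X]
      rw [h]; ring
    | 1 =>
      refine ⟨s * p, r - s * q, H * MvPolynomial.X 1 + Polynomial.aeval (MvPolynomial.X 0) s, ?_⟩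
      simp only [map_mul, map_sub]
      rw [h, eqn]; ring

/-- **The plane model.** -/
theorem exists_algEquiv {A : Type*} [CommRing A] [Algebra k A] {x y : A}
    (hs : ∀ a : A, ∃ p q : k[X], a = aeval x p + aeval x q * y)
    (hu : ∀ p q : k[X], aeval x p + aeval x q * y = 0 → p = 0 ∧ q = 0) {p q : k[X]}
    (e : y ^ 2 + aeval x q * y = aeval x p) :
    ∃ φ : (MvPolynomial (Fin 2) k ⧸ Ideal.span {eqn p q}) ≃ₐ[k] A,
      φ (Ideal.Quotient.mk _ (MvPolynomial.X 0)) = x ∧ φ (Ideal.Quotient.mk _ (MvPolynomial.X 1)) = y := by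
  have h0 : ∀ r : k[X], MvPolynomial.aeval ![x, y] (Polynomial.aeval (MvPolynomial.X 0 : MvPolynomial (Fin 2) k) r) =
      aeval x r := by
    intro r
    rw [← Polynomial.aeval_algHom_apply, MvPolynomial.aeval_X]
    rfl
  have h1 : MvPolynomial.aeval ![x, y] (eqn p q) = 0 := by
    rw [eqn]
    simp only [map_sub, map_add, map_mul, map_pow, h0, MvPolynomial.aeval_X]
    change y ^ 2 + aeval x q * y - aeval x p = 0
    rw [e, sub_self]
  have h2 : RingHom.ker (MvPolynomial.aeval ![x, y] : MvPolynomial (Fin 2) k →ₐ[k] A) = Ideal.span {eqn p q} := by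
    apply le_antisymm
    · intro G hG
      obtain ⟨r, s, H, rfl⟩ := exists_normalForm p q G
      rw [RingHom.mem_ker] at hG
      simp only [map_add, map_mul, h0, h1, mul_zero, add_zero, MvPolynomial.aeval_X] at hG
      obtain ⟨rfl, rfl⟩ := hu r s hG
      rw [map_zero, zero_mul, add_zero, zero_add]
      exact Ideal.mul_mem_left _ _ (Ideal.subset_span rfl)
    · rw [Ideal.span_le, Set.singleton_subset_iff]
      exact h1
  have h3 : Function.Surjective (MvPolynomial.aeval ![x, y] : MvPolynomial (Fin 2) k →ₐ[k] A) := by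
    intro a
    obtain ⟨r, s, rfl⟩ := hs a
    refine ⟨Polynomial.aeval (MvPolynomial.X 0) r + Polynomial.aeval (MvPolynomial.X 0) s * MvPolynomial.X 1, ?_⟩
    simp only [map_add, map_mul, h0, MvPolynomial.aeval_X]
    rfl
  let φ := (Ideal.quotientEquivAlgOfEq k h2.symm).trans (Ideal.quotientKerAlgEquivOfSurjective h3)
  refine ⟨φ, ?_, ?_⟩
  · change MvPolynomial.aeval ![x, y] (MvPolynomial.X 0) = x
    rw [MvPolynomial.aeval_X]; rfl
  · change MvPolynomial.aeval ![x, y] (MvPolynomial.X 1) = y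
    rw [MvPolynomial.aeval_X]; rfl

end K663.TwoAlg
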